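import Mathlib
import Cfsg.Prelude.Def_Solvable

/-!
# Huppert's theorem on solvable transitive linear groups (S3360): definitions and the statements
of the pieces (helper95, team project)

`V` is a finite vector space over `ZMod q`, `ρ : G →* (V ≃ₗ[ZMod q] V)`.
-/

set_option autoImplicit false

universe u w

namespace Cfsg.Agent.H95.Hup

/-- `G` has a normal abelian subgroup acting irreducibly on `V`. -/
def HasIrrAb (q : ℕ) {V : Type u} [AddCommGroup V] [Module (ZMod q) V] {G : Type w} [Group G]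
    (ρ : G →* (V ≃ₗ[ZMod q] V)) : Prop :=
  ∃ A : Subgroup G, A.Normal ∧ (∀ a ∈ A, ∀ b ∈ A, a * b = b * a) ∧
    ∀ W : Submodule (ZMod q) V, (∀ a ∈ A, ∀ v ∈ W, ρ a v ∈ W) → W = ⊥ ∨ W = ⊤

/-- `G` is transitive on the nonzero vectors. -/
def Trans (q : ℕ) {V : Type u} [AddCommGroup V] [Module (ZMod q) V] {G : Type w} [Group G]
    (ρ : G →* (V ≃ₗ[ZMod q] V)) : Prop :=
  ∀ v w : V, v ≠ 0 → w ≠ 0 → ∃ g : G, ρ g v = w

/-- The element `x` acts irreducibly on `V`. -/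
def IrrElt (q : ℕ) {V : Type u} [AddCommGroup V] [Module (ZMod q) V] {G : Type w} [Group G]
    (ρ : G →* (V ≃ₗ[ZMod q] V)) (x : G) : Prop :=
  ∀ W : Submodule (ZMod q) V, (∀ v ∈ W, ρ x v ∈ W) → W = ⊥ ∨ W = ⊤

/-- The element `x` fixes no nonzero vector. -/
def FPF (q : ℕ) {V : Type u} [AddCommGroup V] [Module (ZMod q) V] {G : Type w} [Group G]
    (ρ : G →* (V ≃ₗ[ZMod q] V)) (x : G) : Prop :=
  ∀ v : V, ρ x v = v → v = 0

/-- The element `g` acts as a scalar. -/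
def IsScal (q : ℕ) {V : Type u} [AddCommGroup V] [Module (ZMod q) V] {G : Type w} [Group G]
    (ρ : G →* (V ≃ₗ[ZMod q] V)) (g : G) : Prop :=
  ∃ c : ZMod q, ∀ v : V, ρ g v = c • v

/-- Commutators of elements of `P` commute with `P` (class at most two). -/
def Class2 {G : Type w} [Group G] (P : Subgroup G) : Prop :=
  ∀ a ∈ P, ∀ b ∈ P, ∀ c ∈ P, (a * b * a⁻¹ * b⁻¹) * c = c * (a * b * a⁻¹ * b⁻¹)

/-- `z` centralizes `P`. -/
def Cent {G : Type w} [Group G] (P : Subgroup G) (z : G) : Prop :=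
  ∀ c ∈ P, z * c = c * z

/-- `P` is critical for `x` (with respect to the prime `s`): `x` normalizes `P`, `P` has class at
most two, `x` centralizes `Z(P)` and acts fixed-point-freely on `P / Z(P)`, `P / Z(P)` has exponent
`s`, and `P` is not abelian. -/
def IsCritical {G : Type w} [Group G] (s : ℕ) (x : G) (P : Subgroup G) : Prop :=
  (∀ u ∈ P, x * u * x⁻¹ ∈ P) ∧ Class2 P ∧
  (∀ z ∈ P, Cent P z → x * z = z * x) ∧
  (∀ u ∈ P, Cent P (x * u * x⁻¹ * u⁻¹) → Cent P u) ∧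
  (∀ u ∈ P, Cent P (u ^ s)) ∧
  (∃ a ∈ P, ∃ b ∈ P, a * b ≠ b * a)

/-! ### Basic pieces -/

/-- HUP-DVD -/
def DvdStmt : Prop :=
  ∀ (q : ℕ) [Fact q.Prime] {V : Type u} [AddCommGroup V] [Module (ZMod q) V] [Finite V]
    [Nontrivial V] {G : Type w} [Group G] [Finite G] (ρ : G →* (V ≃ₗ[ZMod q] V)),
    Trans q ρ → (Nat.card V - 1) ∣ Nat.card G

/-- HUP-OT -/
def OTStmt : Prop :=
  ∀ (q : ℕ) [Fact q.Prime] {V : Type u} [AddCommGroup V] [Module (ZMod q) V] [Finite V]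
    [Nontrivial V] {G : Type w} [Group G] [Finite G] (ρ : G →* (V ≃ₗ[ZMod q] V)),
    Function.Injective ρ → Trans q ρ → ∀ t : ℕ, t.Prime → ¬ t ∣ Nat.card V - 1 →
      ∀ T : Subgroup G, T.Normal → IsPGroup t T → T = ⊥

/-- HUP-ONE -/
def OneStmt : Prop :=
  ∀ (q : ℕ) [Fact q.Prime] {V : Type u} [AddCommGroup V] [Module (ZMod q) V] [Finite V]
    [Nontrivial V] {G : Type w} [Group G] [Finite G] (ρ : G →* (V ≃ₗ[ZMod q] V)),
    Function.Injective ρ → Nat.card V = q → HasIrrAb q ρ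

/-! ### Dimension two -/

/-- HUP-R2A -/
def R2AStmt : Prop :=
  ∀ (q : ℕ) [Fact q.Prime] {V : Type u} [AddCommGroup V] [Module (ZMod q) V] [Finite V]
    [Nontrivial V] {G : Type w} [Group G] [Finite G] (ρ : G →* (V ≃ₗ[ZMod q] V)),
    Function.Injective ρ → Trans q ρ → Nat.card V = q ^ 2 →
    ∀ N : Subgroup G, N.Normal → (∀ a ∈ N, ∀ b ∈ N, a * b = b * a) →
      HasIrrAb q ρ ∨ ∀ g ∈ N, IsScal q ρ g

/-- HUP-LI -/
def LIStmt : Prop :=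
  ∀ (q : ℕ) [Fact q.Prime] {V : Type u} [AddCommGroup V] [Module (ZMod q) V] [Finite V]
    [Nontrivial V] {G : Type w} [Group G] [Finite G] (ρ : G →* (V ≃ₗ[ZMod q] V)),
    Function.Injective ρ → ∀ n : ℕ, Nat.card V = q ^ n →
    ∀ P : Subgroup G, (Nat.card P).Coprime q → Class2 P →
      (∀ z ∈ P, Cent P z → z ≠ 1 → FPF q ρ z) →
      Nat.card P ≤ n ^ 2 * Nat.card (Subgroup.center P) ∧
      (Nat.card P = n ^ 2 * Nat.card (Subgroup.center P) →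
        ∀ g : G, Cent P g → IsScal q ρ g)

/-- HUP-R2D -/
def R2DStmt : Prop :=
  ∀ (q : ℕ) [Fact q.Prime] {V : Type u} [AddCommGroup V] [Module (ZMod q) V] [Finite V]
    [Nontrivial V] {G : Type w} [Group G] [Finite G] (ρ : G →* (V ≃ₗ[ZMod q] V)),
    Group.IsSolvable G → Function.Injective ρ → Trans q ρ → Nat.card V = q ^ 2 →
    (∀ N : Subgroup G, N.Normal → (∀ a ∈ N, ∀ b ∈ N, a * b = b * a) → ∀ g ∈ N, IsScal q ρ g) →
    ∃ D : Subgroup G, D.Normal ∧ (Nat.card D).Coprime q ∧ Class2 D ∧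
      (∀ g : G, IsScal q ρ g → g ∈ D) ∧ (∀ z ∈ D, Cent D z → IsScal q ρ z) ∧
      (∃ a ∈ D, ∃ b ∈ D, a * b ≠ b * a)

/-- HUP-R2B -/
def R2BStmt : Prop :=
  ∀ (q : ℕ) [Fact q.Prime] {V : Type u} [AddCommGroup V] [Module (ZMod q) V] [Finite V]
    [Nontrivial V] {G : Type w} [Group G] [Finite G] (ρ : G →* (V ≃ₗ[ZMod q] V)),
    Function.Injective ρ → Nat.card V = q ^ 2 →
    ∀ D : Subgroup G, D.Normal → (Nat.card D).Coprime q → Class2 D →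
      (∀ g : G, IsScal q ρ g → g ∈ D) → (∀ z ∈ D, Cent D z → IsScal q ρ z) →
      (∃ a ∈ D, ∃ b ∈ D, a * b ≠ b * a) →
      q ≠ 2 ∧ Nat.card G ∣ 24 * (q - 1)

/-! ### Primitive prime divisors -/

/-- HUP-PPD -/
def PPDStmt : Prop :=
  ∀ (q : ℕ) [Fact q.Prime] {V : Type u} [AddCommGroup V] [Module (ZMod q) V] [Finite V]
    [Nontrivial V] {G : Type w} [Group G] [Finite G] (ρ : G →* (V ≃ₗ[ZMod q] V)),
    Function.Injective ρ → ∀ n r : ℕ, Nat.card V = q ^ n → r.Prime → r ∣ q ^ n - 1 →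
    (∀ i, 0 < i → i < n → ¬ r ∣ q ^ i - 1) → ∀ x : G, orderOf x = r → FPF q ρ x ∧ IrrElt q ρ x

/-- HUP-CYC -/
def CycStmt : Prop :=
  ∀ (q : ℕ) [Fact q.Prime] {V : Type u} [AddCommGroup V] [Module (ZMod q) V] [Finite V]
    [Nontrivial V] {G : Type w} [Group G] [Finite G] (ρ : G →* (V ≃ₗ[ZMod q] V)),
    Function.Injective ρ → ∀ x : G, IrrElt q ρ x →
    ∀ C : Subgroup G, (∀ c ∈ C, c * x = x * c) → IsCyclic C

/-- HUP-FROB -/
def FrobStmt : Prop :=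
  ∀ (q : ℕ) [Fact q.Prime] {V : Type u} [AddCommGroup V] [Module (ZMod q) V] [Finite V]
    [Nontrivial V] {G : Type w} [Group G] [Finite G] (ρ : G →* (V ≃ₗ[ZMod q] V)),
    Function.Injective ρ → ∀ (r : ℕ) (x : G), r.Prime → orderOf x = r → FPF q ρ x →
    ∀ P : Subgroup G, (Nat.card P).Coprime q → (∀ u ∈ P, x * u * x⁻¹ ∈ P) →
      (∀ u ∈ P, x * u = u * x → u = 1) → P = ⊥

/-- HUP-AB -/
def AbStmt : Prop :=
  ∀ (q : ℕ) [Fact q.Prime] {V : Type u} [AddCommGroup V] [Module (ZMod q) V] [Finite V]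
    [Nontrivial V] {G : Type w} [Group G] [Finite G] (ρ : G →* (V ≃ₗ[ZMod q] V)),
    Function.Injective ρ → ∀ (r s : ℕ) (x : G), r.Prime → s.Prime → s ≠ r → s ≠ q →
    orderOf x = r → FPF q ρ x →
    ∀ A : Subgroup G, IsPGroup s A → (∀ a ∈ A, ∀ b ∈ A, a * b = b * a) →
      (∀ u ∈ A, x * u * x⁻¹ ∈ A) → ∀ u ∈ A, x * u = u * x

/-- HUP-CRIT -/
def CritStmt : Prop :=
  ∀ {G : Type w} [Group G] [Finite G] (s r : ℕ), s.Prime → r.Prime → s ≠ r →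
    ∀ (S R : Subgroup G) (x : G), IsPGroup s S → (∀ a ∈ R, ∀ b ∈ R, a * b = b * a) →
    (∀ y ∈ R, ∀ u ∈ S, y * u * y⁻¹ ∈ S) → x ∈ R → orderOf x = r → (∃ u ∈ S, x * u ≠ u * x) →
    (∀ A : Subgroup G, A ≤ S → (∀ y ∈ R, ∀ u ∈ A, y * u * y⁻¹ ∈ A) →
      (∀ a ∈ A, ∀ b ∈ A, a * b = b * a) → ∀ u ∈ A, x * u = u * x) →
    ∃ P : Subgroup G, P ≤ S ∧ (∀ y ∈ R, ∀ u ∈ P, y * u * y⁻¹ ∈ P) ∧ IsCritical s x P

/-- HUP-SQ -/
def SqStmt : Prop :=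
  ∀ {P : Type w} [Group P] [Finite P] (s : ℕ), s.Prime →
    (∀ a b c : P, (a * b * a⁻¹ * b⁻¹) * c = c * (a * b * a⁻¹ * b⁻¹)) →
    IsCyclic (Subgroup.center P) → (∀ u : P, u ^ s ∈ Subgroup.center P) →
    ∃ M : ℕ, Nat.card P = M ^ 2 * Nat.card (Subgroup.center P)

/-- HUP-SEMI -/
def SemiStmt : Prop :=
  ∀ {G : Type w} [Group G] [Finite G] (P R : Subgroup G),
    (∀ y ∈ R, ∀ u ∈ P, y * u * y⁻¹ ∈ P) →
    (∀ y ∈ R, y ≠ 1 → ∀ u ∈ P, Cent P (y * u * y⁻¹ * u⁻¹) → Cent P u) →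
    ∃ k : ℕ, Nat.card P = (k * Nat.card R + 1) * Nat.card (Subgroup.center P)

/-- HUP-FIT -/
def FitStmt : Prop :=
  ∀ {G : Type w} [Group G] [Finite G], Group.IsSolvable G →
    ∀ (r : ℕ) (x : G), r.Prime → orderOf x = r →
    Cfsg.pCore r G ≠ ⊥ ∨ ∃ s : ℕ, s.Prime ∧ s ≠ r ∧ ∃ u ∈ Cfsg.pCore s G, x * u ≠ u * x

/-- HUP-OR -/
def OrStmt : Prop :=
  ∀ (q : ℕ) [Fact q.Prime] {V : Type u} [AddCommGroup V] [Module (ZMod q) V] [Finite V]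
    [Nontrivial V] {G : Type w} [Group G] [Finite G] (ρ : G →* (V ≃ₗ[ZMod q] V)),
    ∀ r : ℕ, r.Prime → (∀ x : G, orderOf x = r → IrrElt q ρ x) →
    Cfsg.pCore r G ≠ ⊥ → HasIrrAb q ρ

/-- HUP-STEP -/
def StepStmt : Prop :=
  ∀ (q : ℕ) [Fact q.Prime] {V : Type u} [AddCommGroup V] [Module (ZMod q) V] [Finite V]
    [Nontrivial V] {G : Type w} [Group G] [Finite G] (ρ : G →* (V ≃ₗ[ZMod q] V)),
    Function.Injective ρ → ∀ n r s : ℕ, 2 ≤ n → Nat.card V = q ^ n → r.Prime → r ∣ q ^ n - 1 →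
    (∀ i, 0 < i → i < n → ¬ r ∣ q ^ i - 1) → s.Prime → s ≠ r → s ≠ q →
    ∀ (R S : Subgroup G) (x : G), IsPGroup r R → x ∈ R → orderOf x = r →
      (∀ y ∈ R, y * x = x * y) → IsPGroup s S → (∀ y ∈ R, ∀ u ∈ S, y * u * y⁻¹ ∈ S) →
      (∃ u ∈ S, x * u ≠ u * x) →
      r = n + 1 ∧ s = 2 ∧ (∃ k : ℕ, n = 2 ^ k) ∧ Nat.card R = r

/-- HUP-DICH -/
def DichStmt : Prop :=
  ∀ (q : ℕ) [Fact q.Prime] {V : Type u} [AddCommGroup V] [Module (ZMod q) V] [Finite V]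
    [Nontrivial V] {G : Type w} [Group G] [Finite G] (ρ : G →* (V ≃ₗ[ZMod q] V)),
    Group.IsSolvable G → Function.Injective ρ → Trans q ρ →
    ∀ n r : ℕ, 2 ≤ n → Nat.card V = q ^ n → r.Prime → r ∣ q ^ n - 1 →
    (∀ i, 0 < i → i < n → ¬ r ∣ q ^ i - 1) →
    HasIrrAb q ρ ∨ (r = n + 1 ∧ ¬ r ^ 2 ∣ q ^ n - 1 ∧ (∃ k : ℕ, n = 2 ^ k) ∧ q ≠ 2)

/-- HUP-ARITH -/
def ArithStmt : Prop :=
  ∀ q n : ℕ, q.Prime → 3 ≤ n → ¬ (q = 2 ∧ n = 6) →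
    (∀ r : ℕ, r.Prime → r ∣ q ^ n - 1 → (∀ i, 0 < i → i < n → ¬ r ∣ q ^ i - 1) →
      (r = n + 1 ∧ ¬ r ^ 2 ∣ q ^ n - 1 ∧ (∃ k : ℕ, n = 2 ^ k) ∧ q ≠ 2)) →
    q ^ n = 81

/-! ### The space with 64 elements -/

/-- HUP-GL6 -/
def GL6Stmt : Prop :=
  ∀ {V : Type u} [AddCommGroup V] [Module (ZMod 2) V] [Finite V] {G : Type w} [Group G]
    [Finite G] (ρ : G →* (V ≃ₗ[ZMod 2] V)),
    Function.Injective ρ → Nat.card V = 64 → Nat.card G ∣ 20158709760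

/-- HUP-64A -/
def S64AStmt : Prop :=
  ∀ {V : Type u} [AddCommGroup V] [Module (ZMod 2) V] [Finite V] [Nontrivial V] {G : Type w}
    [Group G] [Finite G] (ρ : G →* (V ≃ₗ[ZMod 2] V)),
    Group.IsSolvable G → Function.Injective ρ → Trans 2 ρ → Nat.card V = 64 →
    Cfsg.pCore 7 G ≠ ⊥

/-- HUP-64B -/
def S64BStmt : Prop :=
  ∀ {V : Type u} [AddCommGroup V] [Module (ZMod 2) V] [Finite V] [Nontrivial V] {G : Type w}
    [Group G] [Finite G] (ρ : G →* (V ≃ₗ[ZMod 2] V)),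
    Function.Injective ρ → Trans 2 ρ → Nat.card V = 64 → Cfsg.pCore 7 G ≠ ⊥ →
    ∃ y : G, orderOf y = 7 ∧ FPF 2 ρ y ∧ Cfsg.pCore 7 G = Subgroup.zpowers y

/-- HUP-64C -/
def S64CStmt : Prop :=
  ∀ {V : Type u} [AddCommGroup V] [Module (ZMod 2) V] [Finite V] [Nontrivial V] {G : Type w}
    [Group G] [Finite G] (ρ : G →* (V ≃ₗ[ZMod 2] V)),
    Function.Injective ρ → Trans 2 ρ → Nat.card V = 64 →
    ∀ y : G, orderOf y = 7 → FPF 2 ρ y → (Subgroup.zpowers y).Normal →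
    ∀ N : Subgroup G, N.Normal → (∀ a ∈ N, ∀ b ∈ N, a * b = b * a) → (∀ a ∈ N, a * y = y * a) →
      HasIrrAb 2 ρ ∨ N ≤ Subgroup.zpowers y

/-- HUP-64D -/
def S64DStmt : Prop :=
  ∀ {V : Type u} [AddCommGroup V] [Module (ZMod 2) V] [Finite V] [Nontrivial V] {G : Type w}
    [Group G] [Finite G] (ρ : G →* (V ≃ₗ[ZMod 2] V)),
    Group.IsSolvable G → Function.Injective ρ → Trans 2 ρ → Nat.card V = 64 →
    ∀ y : G, orderOf y = 7 → Cfsg.pCore 7 G = Subgroup.zpowers y →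
    (∀ N : Subgroup G, N.Normal → (∀ a ∈ N, ∀ b ∈ N, a * b = b * a) → (∀ a ∈ N, a * y = y * a) →
      HasIrrAb 2 ρ ∨ N ≤ Subgroup.zpowers y) →
    HasIrrAb 2 ρ

end Cfsg.Agent.H95.Hup
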