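import Cfsg.Prelude.Def_GeometricClasses

set_option autoImplicit false

namespace Cfsg.Agent.H95

open Cfsg Cfsg.Geo
open scoped MatrixGroups Matrix

variable {ι : Type} [Fintype ι] [DecidableEq ι] {F : Type*} [Field F]

/-- The element of `GL ι F` attached to a linear automorphism of `F^ι`. -/
noncomputable def glOf (e : (ι → F) ≃ₗ[F] (ι → F)) : GL ι F :=
  ⟨LinearMap.toMatrix' e.toLinearMap, LinearMap.toMatrix' e.symm.toLinearMap,
    by rw [← LinearMap.toMatrix'_comp]; simp,
    by rw [← LinearMap.toMatrix'_comp]; simp⟩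

lemma glOf_val (e : (ι → F) ≃ₗ[F] (ι → F)) :
    ((glOf e : GL ι F) : Matrix ι ι F) = LinearMap.toMatrix' e.toLinearMap := rfl

@[simp] lemma glOf_mulVec (e : (ι → F) ≃ₗ[F] (ι → F)) (v : ι → F) :
    ((glOf e : GL ι F) : Matrix ι ι F) *ᵥ v = e v := by
  rw [glOf_val, ← Matrix.toLin'_apply, Matrix.toLin'_toMatrix']
  rfl

@[simp] lemma glOf_toLin' (e : (ι → F) ≃ₗ[F] (ι → F)) :
    Matrix.toLin' ((glOf e : GL ι F) : Matrix ι ι F) = e.toLinearMap := by
  rw [glOf_val, Matrix.toLin'_toMatrix']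

lemma det_glOf_val (e : (ι → F) ≃ₗ[F] (ι → F)) :
    ((glOf e : GL ι F) : Matrix ι ι F).det = LinearMap.det e.toLinearMap := by
  rw [glOf_val, LinearMap.det_toMatrix']

lemma mem_specialLinear_iff (g : GL ι F) :
    g ∈ specialLinear ι F ↔ (g : Matrix ι ι F).det = 1 := by
  unfold specialLinear
  rw [MonoidHom.mem_ker, ← Units.val_inj]
  rfl

lemma glOf_mem_specialLinear (e : (ι → F) ≃ₗ[F] (ι → F)) (h : LinearEquiv.det e = 1) :
    glOf e ∈ specialLinear ι F := by
  rw [mem_specialLinear_iff, det_glOf_val, ← LinearEquiv.coe_det, h, Units.val_one]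

lemma mem_subspaceStabilizer_iff (g : GL ι F) (W : Submodule F (ι → F)) :
    g ∈ subspaceStabilizer W ↔ ∀ v, v ∈ W ↔ (g : Matrix ι ι F) *ᵥ v ∈ W := Iff.rfl

/-- The linear automorphism of `F^ι` attached to an element of `GL ι F`. -/
noncomputable def toEquiv (g : GL ι F) : (ι → F) ≃ₗ[F] (ι → F) :=
  LinearEquiv.ofLinearMap (Matrix.toLin' (g : Matrix ι ι F)) (Matrix.toLin' ((g⁻¹ : GL ι F) : Matrix ι ι F))
    (by rw [← Matrix.toLin'_mul, ← Units.val_mul, mul_inv_cancel, Units.val_one, Matrix.toLin'_one])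
    (by rw [← Matrix.toLin'_mul, ← Units.val_mul, inv_mul_cancel, Units.val_one, Matrix.toLin'_one])

@[simp] lemma toEquiv_apply (g : GL ι F) (v : ι → F) : toEquiv g v = (g : Matrix ι ι F) *ᵥ v := by
  simp [toEquiv]

lemma mulVec_injective (g : GL ι F) : Function.Injective (fun v : ι → F => (g : Matrix ι ι F) *ᵥ v) := by
  intro v w h
  have := congrArg (fun x => ((g⁻¹ : GL ι F) : Matrix ι ι F) *ᵥ x) h
  simpa [Matrix.mulVec_mulVec, ← Units.val_mul] using this

/-- An invertible matrix mapping a subspace into itself stabilises it. -/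
lemma mem_subspaceStabilizer_of_forall (g : GL ι F) (W : Submodule F (ι → F))
    (h : ∀ v ∈ W, (g : Matrix ι ι F) *ᵥ v ∈ W) : g ∈ subspaceStabilizer W := by
  rw [mem_subspaceStabilizer_iff]
  intro v
  refine ⟨h v, fun hv => ?_⟩
  -- the restriction of g to W is injective hence surjective
  let f : W →ₗ[F] W := (Matrix.toLin' (g : Matrix ι ι F)).restrict (fun x hx => by
    rw [Matrix.toLin'_apply]; exact h x hx)
  have hinj : Function.Injective f := by
    intro x y hxy
    apply Subtype.ext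
    apply mulVec_injective g
    have := congrArg Subtype.val hxy
    simpa [f, LinearMap.restrict_apply] using this
  have hsurj : Function.Surjective f := LinearMap.surjective_of_injective hinj
  obtain ⟨x, hx⟩ := hsurj ⟨_, hv⟩
  have hx' : (g : Matrix ι ι F) *ᵥ (x : ι → F) = (g : Matrix ι ι F) *ᵥ v := by
    have := congrArg Subtype.val hx
    simpa [f, LinearMap.restrict_apply] using this
  have := mulVec_injective g hx'
  rw [← this]
  exact x.2

/-- In a two-dimensional subspace, every vector is a combination of two independent ones. -/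
lemma mem_pair_of_finrank_two {V : Type*} [AddCommGroup V] [Module F V] (W : Submodule F V)
    (hfin : Module.finrank F W = 2) {e y : V} (he : e ∈ W) (hy : y ∈ W)
    (hli : ∀ s t : F, s • e + t • y = 0 → s = 0 ∧ t = 0) {x : V} (hx : x ∈ W) :
    ∃ α β : F, x = α • e + β • y := by
  have : FiniteDimensional F W := Module.finite_of_finrank_pos (by rw [hfin]; norm_num)
  have hli' : LinearIndependent F ![(⟨e, he⟩ : W), ⟨y, hy⟩] := by
    rw [LinearIndependent.pair_iff]
    intro s t hst
    apply hli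
    have := congrArg Subtype.val hst
    simpa using this
  have hspan : Submodule.span F (Set.range ![(⟨e, he⟩ : W), ⟨y, hy⟩]) = ⊤ :=
    hli'.span_eq_top_of_card_eq_finrank' (by simp [hfin])
  have hx' : (⟨x, hx⟩ : W) ∈ Submodule.span F (Set.range ![(⟨e, he⟩ : W), ⟨y, hy⟩]) := by
    rw [hspan]; trivial
  obtain ⟨c, hc⟩ := (Submodule.mem_span_range_iff_exists_fun F).mp hx'
  rw [Fin.sum_univ_two] at hc
  refine ⟨c 0, c 1, ?_⟩
  have := congrArg Subtype.val hc
  simpa using this.symm

/-- A subgroup all of whose elements map a set of vectors into itself stabilises the set. -/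
lemma le_stabilizing_of_forall (H : Subgroup (GL ι F)) (S : Set (ι → F))
    (h : ∀ g ∈ H, ∀ x ∈ S, (g : Matrix ι ι F) *ᵥ x ∈ S) :
    H ≤ stabilizing (glToMat ι F) S := by
  intro g hg v
  refine ⟨h g hg v, fun hv => ?_⟩
  have := h g⁻¹ (H.inv_mem hg) _ hv
  change ((g⁻¹ : GL ι F) : Matrix ι ι F) *ᵥ ((g : Matrix ι ι F) *ᵥ v) ∈ S at this
  rwa [Matrix.mulVec_mulVec, ← Units.val_mul, inv_mul_cancel, Units.val_one, Matrix.one_mulVec] at this

lemma mem_stabilizing_iff (g : GL ι F) (S : Set (ι → F)) :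
    g ∈ stabilizing (glToMat ι F) S ↔ ∀ v, v ∈ S ↔ (g : Matrix ι ι F) *ᵥ v ∈ S := Iff.rfl

end Cfsg.Agent.H95
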