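import Mathlib

/-!
# Abstract group theory for S4125-T7 (cyclic Sylow `p`-subgroup case of Lemma T)
-/

set_option autoImplicit false

namespace Cfsg.Agent.H95.Baer

/-- `k ≡ 1 mod p` implies `k^(p^j) ≡ 1 mod p^(j+1)`. -/
theorem pow_pow_modEq_one {p : ℕ} (hp : p.Prime) (k : ℕ) (hk : k ≡ 1 [MOD p]) (j : ℕ) :
    k ^ (p ^ j) ≡ 1 [MOD p ^ (j + 1)] := by
  have : NeZero p := ⟨hp.ne_zero⟩
  induction j with
  | zero => simpa using hk
  | succ j ih =>
    rw [Nat.modEq_iff_dvd] at ih ⊢
    set a : ℤ := (k : ℤ) ^ (p ^ j) with ha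
    have h1 : ((p : ℤ) ^ (j + 1)) ∣ a - 1 := by
      have h0 := ih
      push_cast at h0
      rw [← ha] at h0
      have h' : a - 1 = -(1 - a) := by ring
      rw [h']; exact (dvd_neg).mpr h0
    have hap : (p : ℤ) ∣ a - 1 := (dvd_pow_self (p : ℤ) (Nat.succ_ne_zero j)).trans h1
    have h2 : (p : ℤ) ∣ ∑ i ∈ Finset.range p, a ^ i := by
      have hz : ((a : ℤ) : ZMod p) = 1 := by
        have h0 := (ZMod.intCast_zmod_eq_zero_iff_dvd (a - 1) p).mpr hap
        push_cast at h0
        exact sub_eq_zero.mp h0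
      rw [← ZMod.intCast_zmod_eq_zero_iff_dvd]
      push_cast
      rw [hz]
      simp
    have h3 : ((p : ℤ) ^ (j + 1 + 1)) ∣ a ^ p - 1 := by
      rw [← geom_sum_mul, pow_succ, mul_comm ((p : ℤ) ^ (j + 1)) (p : ℤ)]
      exact mul_dvd_mul h2 h1
    push_cast
    have h4 : (1 : ℤ) - (k : ℤ) ^ (p ^ (j + 1)) = -(a ^ p - 1) := by
      rw [ha, ← pow_mul, ← pow_succ]; ring
    rw [h4]; exact (dvd_neg).mpr h3

/-- Cyclic Sylow `p`-subgroup on whose generator the normalizer acts by exponents `≡ 1 mod p`: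
the normalizer centralizes. -/
theorem normalizer_le_centralizer_of_cyclic {G : Type*} [Group G] [Finite G] {p : ℕ}
    [Fact p.Prime] (P : Sylow p G) (g₀ : G)
    (hgen : ∀ y ∈ (P : Subgroup G), y ∈ Subgroup.zpowers g₀)
    (hg₀ : g₀ ∈ (P : Subgroup G))
    (hk : ∀ x ∈ Subgroup.normalizer ((P : Subgroup G) : Set G), ∃ k : ℕ, k ≡ 1 [MOD p] ∧ x * g₀ * x⁻¹ = g₀ ^ k) :
    Subgroup.normalizer ((P : Subgroup G) : Set G) ≤ Subgroup.centralizer (P : Set G) := by
  have hp := (Fact.out : p.Prime)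
  intro x hx
  have key : Commute x g₀ := by
    obtain ⟨k, hk1, hkx⟩ := hk x hx
    have hiter : ∀ j : ℕ, x ^ j * g₀ * (x ^ j)⁻¹ = g₀ ^ (k ^ j) := by
      intro j
      induction j with
      | zero => simp
      | succ j ih =>
        have h1 : x ^ (j + 1) * g₀ * (x ^ (j + 1))⁻¹ = x * (x ^ j * g₀ * (x ^ j)⁻¹) * x⁻¹ := by
          rw [pow_succ']; group
        rw [h1, ih]
        have h2 : x * g₀ ^ (k ^ j) * x⁻¹ = (x * g₀ * x⁻¹) ^ (k ^ j) := by
          rw [conj_pow]
        rw [h2, hkx, ← pow_mul, pow_succ']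
    obtain ⟨n, hn⟩ := P.2 ⟨g₀, hg₀⟩
    have hn' : g₀ ^ (p ^ n) = 1 := by simpa using congrArg Subtype.val hn
    have hord : orderOf g₀ ∣ p ^ n := orderOf_dvd_of_pow_eq_one hn'
    have h1 : k ^ (p ^ n) ≡ 1 [MOD orderOf g₀] :=
      ((pow_pow_modEq_one hp k hk1 n).of_dvd ⟨p, by rw [pow_succ]⟩).of_dvd hord
    have hc1 : Commute (x ^ (p ^ n)) g₀ := by
      have h2 := hiter (p ^ n)
      have h3 : g₀ ^ (k ^ (p ^ n)) = g₀ ^ 1 := pow_eq_pow_iff_modEq.mpr h1
      rw [h3, pow_one] at h2
      exact mul_inv_eq_iff_eq_mul.mp h2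
    have ho0 : orderOf x ≠ 0 := (orderOf_pos x).ne'
    have hy : x ^ (ordCompl[p] (orderOf x)) ∈ (P : Subgroup G) := by
      have hH : IsPGroup p (Subgroup.zpowers (x ^ (ordCompl[p] (orderOf x)))) := by
        rintro ⟨z, hz⟩
        obtain ⟨i, rfl⟩ := Subgroup.mem_zpowers_iff.mp hz
        refine ⟨(orderOf x).factorization p, Subtype.ext ?_⟩
        simp only [Subgroup.coe_pow, Subgroup.coe_one]
        rw [← zpow_natCast, ← zpow_mul, mul_comm, zpow_mul, zpow_natCast, ← pow_mul,
          mul_comm, Nat.ordProj_mul_ordCompl_eq_self, pow_orderOf_eq_one, one_zpow]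
      have hle : Subgroup.zpowers (x ^ (ordCompl[p] (orderOf x))) ≤ Subgroup.normalizer ((P : Subgroup G) : Set G) := by
        rw [Subgroup.zpowers_le]; exact Subgroup.pow_mem _ hx _
      have hsup := hH.to_sup_of_normal_right' P.2 hle
      have hmax := P.is_maximal' hsup le_sup_right
      rw [← hmax]; exact Subgroup.mem_sup_left (Subgroup.mem_zpowers _)
    have hc2 : Commute (x ^ (ordCompl[p] (orderOf x))) g₀ := by
      obtain ⟨i, hi⟩ := Subgroup.mem_zpowers_iff.mp (hgen _ hy)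
      rw [← hi]; exact (Commute.refl g₀).zpow_left i
    have hcop : Nat.gcd (ordCompl[p] (orderOf x)) (p ^ n) = 1 :=
      (Nat.Coprime.pow_right n (Nat.coprime_ordCompl hp ho0).symm)
    have hx1 : x = (x ^ (ordCompl[p] (orderOf x))) ^ (Nat.gcdA (ordCompl[p] (orderOf x)) (p ^ n)) *
        (x ^ (p ^ n)) ^ (Nat.gcdB (ordCompl[p] (orderOf x)) (p ^ n)) := by
      have hb := Nat.gcd_eq_gcd_ab (ordCompl[p] (orderOf x)) (p ^ n)
      rw [hcop] at hb
      rw [← zpow_natCast, ← zpow_natCast, ← zpow_mul, ← zpow_mul, ← zpow_add, ← hb]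
      simp
    rw [hx1]; exact (hc2.zpow_left _).mul_left (hc1.zpow_left _)
  rw [Subgroup.mem_centralizer_iff]
  intro y hy
  obtain ⟨i, rfl⟩ := Subgroup.mem_zpowers_iff.mp (hgen y hy)
  exact ((key.zpow_right i).eq).symm

/-- In the situation of `normalizer_le_centralizer_of_cyclic`, if moreover the group has no
nontrivial normal `p'`-subgroup, the Sylow subgroup is everything. -/
theorem sylow_eq_top_of_cyclic {G : Type*} [Group G] [Finite G] {p : ℕ} [Fact p.Prime]
    (P : Sylow p G) (g₀ : G)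
    (hgen : ∀ y ∈ (P : Subgroup G), y ∈ Subgroup.zpowers g₀)
    (hg₀ : g₀ ∈ (P : Subgroup G))
    (hk : ∀ x ∈ Subgroup.normalizer ((P : Subgroup G) : Set G), ∃ k : ℕ, k ≡ 1 [MOD p] ∧ x * g₀ * x⁻¹ = g₀ ^ k)
    (hcop : ∀ M : Subgroup G, M.Normal → (Nat.card M).Coprime p → M = ⊥) :
    (P : Subgroup G) = ⊤ := by
  have hN := normalizer_le_centralizer_of_cyclic P g₀ hgen hg₀ hk
  have hcomp := MonoidHom.ker_transferSylow_isComplement' P hN
  have hKn : (MonoidHom.transferSylow P hN).ker.Normal := MonoidHom.normal_ker _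
  have hcard : Nat.card (MonoidHom.transferSylow P hN).ker * Nat.card (P : Subgroup G)
      = Nat.card G := hcomp.card_mul_card
  have hKc : (Nat.card (MonoidHom.transferSylow P hN).ker).Coprime p := by
    have h1 : Nat.card (MonoidHom.transferSylow P hN).ker = (P : Subgroup G).index := by
      have h2 := (P : Subgroup G).index_mul_card
      have h3 : 0 < Nat.card (P : Subgroup G) := Nat.card_pos
      exact Nat.eq_of_mul_eq_mul_right h3 (hcard.trans h2.symm)
    rw [h1]
    exact ((Nat.Prime.coprime_iff_not_dvd Fact.out).mpr P.not_dvd_index).symm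
  have hbot := hcop _ hKn hKc
  rw [hbot] at hcomp
  exact Subgroup.isComplement'_bot_left.mp hcomp

/-- A group generated by one element is solvable. -/
theorem solvable_of_zpowers {G : Type*} [Group G] (g₀ : G)
    (hgen : ∀ y : G, y ∈ Subgroup.zpowers g₀) : Group.IsSolvable G := by
  apply Group.isSolvable_of_comm
  intro a b
  obtain ⟨i, rfl⟩ := Subgroup.mem_zpowers_iff.mp (hgen a)
  obtain ⟨j, rfl⟩ := Subgroup.mem_zpowers_iff.mp (hgen b)
  rw [← zpow_add, ← zpow_add, add_comm]

/-- Derived chain of a subgroup inside the ambient group. -/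
def dchain {G : Type*} [Group G] (N : Subgroup G) : ℕ → Subgroup G
  | 0 => N
  | (i + 1) => ⁅dchain N i, dchain N i⁆

/-- Abstract core of the cyclic case: a finite group with a cyclic Sylow `p`-subgroup, no
nontrivial normal `p'`-subgroup, all proper normal subgroups solvable, and possessing a proper
nontrivial normal subgroup, is solvable. -/
theorem solvable_of_normal_proper {G : Type*} [Group G] [Finite G] {p : ℕ} [Fact p.Prime]
    (P : Sylow p G) (hc : IsCyclic (P : Subgroup G))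
    (hcop : ∀ M : Subgroup G, M.Normal → (Nat.card M).Coprime p → M = ⊥)
    (hih : ∀ M : Subgroup G, M.Normal → M ≠ ⊤ → Group.IsSolvable M)
    (N : Subgroup G) (hN : N.Normal) (hNtop : N ≠ ⊤) (hNbot : N ≠ ⊥) :
    Group.IsSolvable G := by
  have hp := (Fact.out : p.Prime)
  have hNs : Group.IsSolvable N := hih N hN hNtop
  -- derived chain of `N` inside `G`
  let D : ℕ → Subgroup G := dchain N
  have hD0 : D 0 = N := rfl
  have hDs : ∀ i, D (i + 1) = ⁅D i, D i⁆ := fun i => rfl
  have hDn : ∀ i, (D i).Normal := by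
    intro i
    induction i with
    | zero => exact hN
    | succ i ih => rw [hDs]; exact @Subgroup.commutator_normal _ _ (D i) (D i) ih ih
  have hDmap : ∀ i, (derivedSeries N i).map N.subtype = D i := by
    intro i
    induction i with
    | zero =>
      show (derivedSeries N 0).map N.subtype = N
      rw [derivedSeries_zero, ← MonoidHom.range_eq_map, Subgroup.range_subtype]
    | succ i ih => rw [derivedSeries_succ, Subgroup.map_commutator, ih, hDs]
  obtain ⟨n, hn⟩ := hNs.solvable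
  have hexB : ∀ n, D n = ⊥ → ∃ i, D i ≠ ⊥ ∧ ⁅D i, D i⁆ = ⊥ := by
    intro n
    induction n with
    | zero => intro h0; exact absurd h0 hNbot
    | succ n ih =>
      intro hn1
      by_cases hn0 : D n = ⊥
      · exact ih hn0
      · exact ⟨n, hn0, hn1⟩
  obtain ⟨i, hBne, hBcomm⟩ := hexB n (by rw [← hDmap, hn, Subgroup.map_bot])
  have hBn : (D i).Normal := hDn i
  generalize D i = B at hBne hBcomm hBn
  have hBab : ∀ a ∈ B, ∀ b ∈ B, a * b = b * a := by
    intro a ha b hb
    have h1 := Subgroup.commutator_mem_commutator ha hb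
    rw [hBcomm, Subgroup.mem_bot, commutatorElement_eq_one_iff_mul_comm] at h1
    exact h1
  -- the `p'`-part of `B` is trivial
  let K : Subgroup G :=
    { carrier := {b | b ∈ B ∧ b ^ (ordCompl[p] (Nat.card B)) = 1}
      one_mem' := ⟨B.one_mem, one_pow _⟩
      mul_mem' := by
        rintro a b ⟨ha, ha1⟩ ⟨hb, hb1⟩
        refine ⟨B.mul_mem ha hb, ?_⟩
        rw [(show Commute a b from hBab a ha b hb).mul_pow, ha1, hb1, one_mul]
      inv_mem' := by
        rintro a ⟨ha, ha1⟩
        exact ⟨B.inv_mem ha, by rw [inv_pow, ha1, inv_one]⟩ }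
  have hKn : K.Normal := by
    constructor
    rintro b ⟨hb, hb1⟩ g
    refine ⟨hBn.conj_mem b hb g, ?_⟩
    rw [conj_pow, hb1]; simp
  have hKc : (Nat.card K).Coprime p := by
    rw [Nat.coprime_comm, Nat.Prime.coprime_iff_not_dvd hp]
    intro hdvd
    obtain ⟨x, hx⟩ := exists_prime_orderOf_dvd_card' p hdvd
    have hx1 : (x : G) ^ (ordCompl[p] (Nat.card B)) = 1 := x.2.2
    have hx2 : orderOf (x : G) = p := by rw [← hx]; exact Subgroup.orderOf_coe x
    have h1 := orderOf_dvd_of_pow_eq_one hx1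
    rw [hx2] at h1
    have hcop' := Nat.coprime_ordCompl hp (Nat.card_pos (α := B)).ne'
    exact hp.one_lt.ne' (Nat.Coprime.eq_one_of_dvd hcop' h1)
  have hK : K = ⊥ := hcop K hKn hKc
  have hBp : IsPGroup p B := by
    rintro ⟨b, hb⟩
    refine ⟨(Nat.card B).factorization p, Subtype.ext ?_⟩
    have hbK : b ^ (ordProj[p] (Nat.card B)) ∈ K := by
      refine ⟨B.pow_mem hb _, ?_⟩
      rw [← pow_mul, Nat.ordProj_mul_ordCompl_eq_self]
      have h1 : (⟨b, hb⟩ : B) ^ Nat.card B = 1 := pow_card_eq_one'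
      simpa only [Subgroup.coe_pow, Subgroup.coe_one] using congrArg Subtype.val h1
    rw [hK, Subgroup.mem_bot] at hbK
    simpa using hbK
  have hBP : B ≤ (P : Subgroup G) := hBp.le_sylow_of_normal P
  -- the elements of order dividing `p` in `B`
  let Z : Subgroup G :=
    { carrier := {b | b ∈ B ∧ b ^ p = 1}
      one_mem' := ⟨B.one_mem, one_pow _⟩
      mul_mem' := by
        rintro a b ⟨ha, ha1⟩ ⟨hb, hb1⟩
        refine ⟨B.mul_mem ha hb, ?_⟩
        rw [(show Commute a b from hBab a ha b hb).mul_pow, ha1, hb1, one_mul]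
      inv_mem' := by
        rintro a ⟨ha, ha1⟩
        exact ⟨B.inv_mem ha, by rw [inv_pow, ha1, inv_one]⟩ }
  have hZn : Z.Normal := by
    constructor
    rintro b ⟨hb, hb1⟩ g
    refine ⟨hBn.conj_mem b hb g, ?_⟩
    rw [conj_pow, hb1]; simp
  have hZP : Z ≤ (P : Subgroup G) := fun b hb => hBP hb.1
  obtain ⟨z, hzZ, hz1⟩ : ∃ z ∈ Z, z ≠ 1 := by
    have hpB : p ∣ Nat.card B := by
      obtain ⟨k, hk⟩ := IsPGroup.iff_card.mp hBp
      rcases Nat.eq_zero_or_pos k with h0 | h0
      · exfalso; apply hBne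
        rw [h0, pow_zero] at hk
        exact Subgroup.card_eq_one.mp hk
      · rw [hk]; exact dvd_pow_self p h0.ne'
    obtain ⟨x, hx⟩ := exists_prime_orderOf_dvd_card' p hpB
    refine ⟨x, ⟨x.2, ?_⟩, ?_⟩
    · have h1 := pow_orderOf_eq_one x
      rw [hx] at h1
      simpa using congrArg Subtype.val h1
    · intro h1
      have h2 : x = 1 := Subtype.ext h1
      rw [h2, orderOf_one] at hx
      exact hp.one_lt.ne hx
  haveI : IsCyclic Z := by
    haveI := hc
    have h1 : IsCyclic (Z.subgroupOf (P : Subgroup G)) := inferInstance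
    exact isCyclic_of_surjective (Subgroup.subgroupOfEquivOfLe hZP).toMonoidHom
      (Subgroup.subgroupOfEquivOfLe hZP).surjective
  haveI := hZn
  let φ : G →* MulAut Z := MulAut.conjNormal
  have hcommAut : ∀ a b : MulAut Z, a * b = b * a := by
    intro a b
    apply (IsCyclic.mulAutMulEquiv Z).injective
    rw [map_mul, map_mul, mul_comm]
  haveI : Group.IsSolvable (MulAut Z) := Group.isSolvable_of_comm hcommAut
  by_cases hker : φ.ker = ⊤
  · -- `z` is central
    have hcent : ∀ a : G, a * z * a⁻¹ = z := by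
      intro a
      have ha : a ∈ φ.ker := by rw [hker]; trivial
      rw [MonoidHom.mem_ker] at ha
      have h1 := congrArg (fun f : MulAut Z => ((f ⟨z, hzZ⟩ : Z) : G)) ha
      simpa [φ, MulAut.conjNormal_apply] using h1
    obtain ⟨g, hg⟩ := IsCyclic.exists_generator (α := (P : Subgroup G))
    have hgen : ∀ y ∈ (P : Subgroup G), y ∈ Subgroup.zpowers (g : G) := by
      intro y hy
      obtain ⟨j, hj⟩ := Subgroup.mem_zpowers_iff.mp (hg ⟨y, hy⟩)
      exact Subgroup.mem_zpowers_iff.mpr ⟨j, by simpa using congrArg Subtype.val hj⟩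
    have hzord : orderOf z = p := orderOf_eq_prime hzZ.2 hz1
    have hk : ∀ x ∈ Subgroup.normalizer ((P : Subgroup G) : Set G),
        ∃ k : ℕ, k ≡ 1 [MOD p] ∧ x * (g : G) * x⁻¹ = (g : G) ^ k := by
      intro x hx
      have h1 : x * (g : G) * x⁻¹ ∈ (P : Subgroup G) :=
        (Subgroup.mem_normalizer_iff.mp hx (g : G)).mp g.2
      have h2 := hgen _ h1
      rw [← mem_powers_iff_mem_zpowers] at h2
      obtain ⟨k, hk⟩ := h2
      refine ⟨k, ?_, hk.symm⟩
      obtain ⟨j, hj⟩ := Subgroup.mem_zpowers_iff.mp (hgen z (hZP hzZ))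
      have hk' : (g : G) ^ k = x * (g : G) * x⁻¹ := hk
      have h3 : z ^ k = z := by
        calc z ^ k = ((g : G) ^ j) ^ k := by rw [hj]
          _ = ((g : G) ^ k) ^ j := by
              rw [← zpow_natCast, ← zpow_mul, mul_comm, zpow_mul, zpow_natCast]
          _ = (x * (g : G) * x⁻¹) ^ j := by rw [hk']
          _ = x * (g : G) ^ j * x⁻¹ := by rw [conj_zpow]
          _ = x * z * x⁻¹ := by rw [hj]
          _ = z := hcent x
      have h4 : z ^ k = z ^ 1 := by rw [h3, pow_one]
      rw [pow_eq_pow_iff_modEq, hzord] at h4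
      exact h4
    have htop := sylow_eq_top_of_cyclic P (g : G) hgen g.2 hk hcop
    exact solvable_of_zpowers (g : G) (fun y => hgen y (by rw [htop]; trivial))
  · haveI : Group.IsSolvable φ.ker := hih φ.ker (MonoidHom.normal_ker φ) hker
    exact Group.isSolvable_of_ker_le_range φ.ker.subtype φ (by simp)

end Cfsg.Agent.H95.Baer
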