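import Cfsg.Agent.H48.EpDefs2
import Cfsg.Agent.H95.EpStructOdd
import Cfsg.Agent.H14.TiStepOdd

/-!
# EP-STRUCT-EVEN (helper95, for helper48's S5974 project)

The structure theorem `Cfsg.Agent.H48.Ep.StStruct` in characteristic `2`: the polar form of `Q`
is alternating, so helper42's symplectic library (`Cfsg.Agent.H42.Spd`) applies to it verbatim;
the types come from the pieces `StType0`, `StQSum`, `StQBoth2`.
-/

set_option autoImplicit false

namespace Cfsg.Agent.H95.Ep

open Cfsg.Agent.H45 Cfsg.Agent.H42.Spd Cfsg.Agent.H42.Ti Cfsg.Agent.H14.Ot Cfsg.Agent.H95.Oh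
  Cfsg.Agent.H48.Ep Module

universe u v

theorem se_logic3 {P0 P1 pl : Prop} (h : P0 ↔ (pl ↔ P1)) : (P0 ↔ P1) ↔ pl := by
  by_cases h0 : P0 <;> by_cases h1 : P1 <;> by_cases hp : pl <;> simp_all

set_option maxHeartbeats 1000000 in
/-- EP-STRUCT-EVEN. -/
theorem structEven (hT0 : StType0.{u, v}) (hQS : StQSum.{u, v}) (hQB : StQBoth2.{u, v}) :
    StStructEven.{u, v} := by
  intro F _ _ V _ _ _ Q T r plV h2 hr hr2 hrF hQ hiso hpow hev hplV
  unfold StructBody
  classical
  -- the bilinear form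
  obtain ⟨B, hB⟩ : ∃ B : V →ₗ[F] V →ₗ[F] F, B = QuadraticMap.polarBilin Q := ⟨_, rfl⟩
  have hBapp : ∀ x y, B x y = QuadraticMap.polar Q x y := by
    intro x y; rw [hB]; rfl
  have hsymm : ∀ x y, B x y = B y x := by
    intro x y; rw [hBapp, hBapp, QuadraticMap.polar_comm]
  have hQ' : (⊤ : Submodule F V) ⊓ perp B ⊤ = ⊥ := by rw [hB]; exact hQ
  have hnd : ∀ x, (∀ y, B x y = 0) → x = 0 := by
    intro x hx
    have hx' : x ∈ (⊤ : Submodule F V) ⊓ perp B ⊤ :=
      ⟨Submodule.mem_top, fun u _ => by rw [hsymm]; exact hx u⟩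
    rw [hQ'] at hx'
    exact (Submodule.mem_bot F).mp hx'
  have hisoB : ∀ x y, B (T x) (T y) = B x y := by
    intro x y
    rw [hBapp, hBapp]
    unfold QuadraticMap.polar
    rw [← map_add, hiso, hiso, hiso]
  have hss : T.IsSemisimple := by
    have : CharP F (ringChar F) := ringChar.charP F
    refine isSemisimple_of_pow_eq_one (ringChar F) T r ?_ hpow
    intro hdvd
    exact hrF ((ringChar.spec F r).mpr hdvd)
  have hgood : Good (RingHom.id F) (-1) B T := by
    refine ⟨?_, hnd, ?_, hisoB, hss⟩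
    · intro x y
      rw [RingHom.id_apply, hsymm y x]
      have h3 : B x y + B x y = 0 := by rw [← two_mul, h2, zero_mul]
      linear_combination h3
    · intro _ x
      rw [hBapp, QuadraticMap.polar_self, two_nsmul, ← two_mul, h2, zero_mul]
  have hctx : Ctx r B T := ⟨hr, hr2, hrF, hgood, hpow⟩
  have hNd : ∀ W : Submodule F V, QNd Q W ↔ W ⊓ perp B W = ⊥ := by
    intro W; rw [hB]; rfl
  have hcpos : 0 < cc F r := so_cc_pos r hr hrF
  have hceven : Even (cc F r) := so_cc_even r
  -- the splitting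
  obtain ⟨hKR, hKRtop, hsplit⟩ := fin_split.{u, v} F V r T hrF hpow
  set K : Submodule F V := LinearMap.ker (T - 1) with hK
  set R : Submodule F V := LinearMap.range (T - 1) with hR
  have hKfix : ∀ k ∈ K, T k = k := by
    intro k hk
    have : (T - 1) k = 0 := LinearMap.mem_ker.mp hk
    simpa [sub_eq_zero] using this
  have hUK : ∀ u ∈ R, ∀ k ∈ K, B u k = 0 := by
    rintro u ⟨w, rfl⟩ k hk
    have h1 : (T - 1) w = T w - w := by simp
    rw [h1, map_sub, LinearMap.sub_apply]
    nth_rewrite 1 [← hKfix k hk]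
    rw [hisoB, sub_self]
  have hRperp : R ≤ perp B K := by
    intro u hu k hk
    rw [hsymm]
    exact hUK u hu k hk
  have hKnd : K ⊓ perp B K = ⊥ := Cfsg.Agent.H60.Ot.ker_nondeg B T hsymm hnd hKRtop hUK
  have hKQ : QNd Q K := (hNd K).mpr hKnd
  have hKinv : K ∈ T.invtSubmodule := by
    rw [Module.End.mem_invtSubmodule]
    intro k hk
    rw [Submodule.mem_comap, hKfix k hk]
    exact hk
  have hkkK : kk T ⊤ = Module.finrank F K := by
    unfold kk; rw [top_inf_eq]
  have hNdtop : Nd B T ⊤ := ⟨Module.End.invtSubmodule.top_mem T, hQ'⟩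
  -- the number of blocks
  obtain ⟨A, hA⟩ := Cfsg.Agent.H14.Ti.spdModc.{u, v} F V r B T hctx ⊤ hNdtop
  rw [finrank_top] at hA
  have hKeven : Even (Module.finrank F K) := by
    rw [← hkkK]
    have h1 : Even (cc F r * A) := hceven.mul_right A
    rw [hA] at hev
    exact (Nat.even_add.mp hev).mpr h1
  have hRfin : Module.finrank F K + Module.finrank F R = Module.finrank F V := by
    have h := Submodule.finrank_sup_add_finrank_inf_eq K R
    rw [hKRtop, hKR, finrank_top, finrank_bot, add_zero] at h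
    exact h.symm
  -- the shape of an invariant nondegenerate subspace
  have hshape : ∀ W : Submodule F V, W ∈ T.invtSubmodule → W ⊓ perp B W = ⊥ →
      ∃ j : ℕ, Module.finrank F W = kk T W + cc F r * j ∧ j ≤ A := by
    intro W hinv hndW
    obtain ⟨j, hj⟩ := Cfsg.Agent.H14.Ti.spdModc.{u, v} F V r B T hctx W ⟨hinv, hndW⟩
    refine ⟨j, hj, ?_⟩
    have h1 := hsplit W hinv
    have h2' := Submodule.finrank_sup_add_finrank_inf_eq (W ⊓ K) (W ⊓ R)
    have h3 : (W ⊓ K) ⊓ (W ⊓ R) = ⊥ := by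
      rw [eq_bot_iff]
      intro x hx
      have : x ∈ K ⊓ R := ⟨hx.1.2, hx.2.2⟩
      rw [hKR] at this
      exact this
    rw [h1, h3, finrank_bot, add_zero] at h2'
    have h4 : Module.finrank F ↥(W ⊓ R) ≤ Module.finrank F R := Submodule.finrank_mono inf_le_right
    have h5 : kk T W = Module.finrank F ↥(W ⊓ K) := rfl
    have h6 : cc F r * j ≤ cc F r * A := by
      generalize cc F r * j = a at *
      generalize cc F r * A = b at *
      omega
    exact Nat.le_of_mul_le_mul_left h6 hcpos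
  -- a fixed-point-free invariant nondegenerate subspace lies in `R` and has a known type
  have hfree : ∀ (W₁ : Submodule F V) (j : ℕ), W₁ ∈ T.invtSubmodule → W₁ ⊓ perp B W₁ = ⊥ →
      W₁ ⊓ K = ⊥ → Module.finrank F W₁ = cc F r * j →
      W₁ ≤ perp B K ∧ (QPlus Q W₁ ↔ (Odd (ii F r) ∨ Even j)) := by
    intro W₁ j hinv hnd₁ hK₁ hfin
    constructor
    · have h1 := hsplit W₁ hinv
      rw [hK₁, bot_sup_eq] at h1
      exact (inf_eq_left.mp h1).trans hRperp
    · have hkk0 : kk T W₁ = 0 := by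
        unfold kk; rw [hK₁]; simp
      exact hT0 F V Q T r hr hr2 hrF hQ hiso hpow W₁ j hinv ((hNd W₁).mpr hnd₁) hkk0 hfin
  -- existence of fixed-point-free invariant nondegenerate subspaces
  have hback : ∀ j : ℕ, kk T ⊤ + cc F r * j ≤ Module.finrank F V →
      ∃ W₁ : Submodule F V, W₁ ∈ T.invtSubmodule ∧ W₁ ⊓ perp B W₁ = ⊥ ∧ W₁ ⊓ K = ⊥ ∧
        Module.finrank F W₁ = cc F r * j := by
    intro j hj
    obtain ⟨U, -, hUnd, hUfin, hUkk⟩ := Cfsg.Agent.H14.Ti.spdSub.{u, v} F V r B T hctx ⊤ hNdtop j 0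
      (by rw [finrank_top]; exact hj) (by simp)
    refine ⟨U, hUnd.1, hUnd.2, ?_, by rw [hUfin]; simp⟩
    have h0 : Module.finrank F ↥(U ⊓ K) = 0 := by
      have h : kk T U = Module.finrank F ↥(U ⊓ K) := rfl
      rw [← h, hUkk]
    exact Submodule.finrank_eq_zero.mp h0
  have horthK : ∀ W₁ : Submodule F V, W₁ ≤ perp B K →
      ∀ x ∈ K, ∀ y ∈ W₁, QuadraticMap.polar ⇑Q x y = 0 := by
    intro W₁ h x hx y hy
    rw [← hBapp]
    exact h hy x hx
  -- the type of `K`
  have hKtype : QPlus Q K ↔ (plV ↔ (Odd (ii F r) ∨ Even A)) := by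
    obtain ⟨WA, hinv, hnd₁, hK₁, hfin⟩ := hback A (le_of_eq hA.symm)
    obtain ⟨hperp, htype⟩ := hfree WA A hinv hnd₁ hK₁ hfin
    obtain ⟨-, hfinsum, hsum⟩ := hQS F V Q K WA hKQ ((hNd WA).mpr hnd₁) (horthK WA hperp) hKeven
      (by rw [hfin]; exact hceven.mul_right A)
    have htop : K ⊔ WA = ⊤ := by
      apply Submodule.eq_top_of_finrank_eq
      rw [hfinsum, hfin, ← hkkK, ← hA]
    rw [htop] at hsum
    exact so_logic2 hsum htype hplV.symm
  refine ⟨hKQ, A, hA, ?_, ?_, ?_⟩
  · -- `K = 0`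
    intro h0
    have h1 : Module.finrank F (⊤ : Submodule F V) = cc F r * A := by
      rw [finrank_top, hA, h0, zero_add]
    exact hplV.symm.trans (hT0 F V Q T r hr hr2 hrF hQ hiso hpow ⊤ A
      (Module.End.invtSubmodule.top_mem T) hQ h0 h1)
  · -- existence
    intro j e pl hjA hek hee h0 hfull
    have hjle : kk T ⊤ + cc F r * j ≤ Module.finrank F V := by
      rw [hA]
      exact Nat.add_le_add_left (Nat.mul_le_mul_left _ hjA) _
    obtain ⟨W₁, hinv, hnd₁, hK₁, hfin⟩ := hback j hjle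
    obtain ⟨hperp, htype⟩ := hfree W₁ j hinv hnd₁ hK₁ hfin
    have hW₁Q : QNd Q W₁ := (hNd W₁).mpr hnd₁
    have hW₁ev : Even (Module.finrank F W₁) := by rw [hfin]; exact hceven.mul_right j
    by_cases he0 : e = 0
    · refine ⟨W₁, hinv, hW₁Q, by rw [hfin, he0, add_zero], ?_⟩
      exact htype.trans (h0 he0).symm
    · by_cases hlt : e + 1 ≤ kk T ⊤
      · -- a proper subspace of `K`
        have he2 : 2 ≤ e := by
          rcases hee with ⟨t, ht⟩
          omega
        have hle : e + 2 ≤ Module.finrank F K := by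
          rcases hee with ⟨t, ht⟩
          rcases hKeven with ⟨s, hs⟩
          rw [hkkK] at hlt
          omega
        obtain ⟨W₀, hW₀K, hW₀Q, hW₀fin, hW₀pl⟩ :=
          hQB F V Q K e (pl ↔ QPlus Q W₁) h2 hKQ hee he2 hle
        have hW₀inv : W₀ ∈ T.invtSubmodule := by
          rw [Module.End.mem_invtSubmodule]
          intro x hx
          rw [Submodule.mem_comap, hKfix x (hW₀K hx)]
          exact hx
        have horth : ∀ x ∈ W₀, ∀ y ∈ W₁, QuadraticMap.polar ⇑Q x y = 0 :=
          fun x hx y hy => horthK W₁ hperp x (hW₀K hx) y hy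
        obtain ⟨hndsum, hfinsum, hsum⟩ := hQS F V Q W₀ W₁ hW₀Q hW₁Q horth
          (by rw [hW₀fin]; exact hee) hW₁ev
        refine ⟨W₀ ⊔ W₁, Module.End.invtSubmodule.sup_mem hW₀inv hinv, hndsum, ?_, ?_⟩
        · rw [hfinsum, hfin, hW₀fin, add_comm]
        · exact hsum.trans (se_logic3 hW₀pl)
      · have hek' : e = kk T ⊤ := by omega
        obtain ⟨hndsum, hfinsum, hsum⟩ := hQS F V Q K W₁ hKQ hW₁Q (horthK W₁ hperp) hKeven hW₁ev
        refine ⟨K ⊔ W₁, Module.End.invtSubmodule.sup_mem hKinv hinv, hndsum, ?_, ?_⟩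
        · rw [hfinsum, hfin, ← hkkK, ← hek', add_comm]
        · have h5 := hfull hek' he0
          have h6 : Even (A - j) ↔ (Even A ↔ Even j) := Nat.even_sub hjA
          exact hsum.trans ((so_logic hKtype htype h6).trans h5.symm)
  · -- the shape of an invariant nondegenerate subspace
    intro W pl hWinv hWnd hWev hWpl
    have hWnd' := (hNd W).mp hWnd
    obtain ⟨j, h1, hjA⟩ := hshape W hWinv hWnd'
    have hkkle : kk T W ≤ kk T ⊤ := by
      unfold kk
      exact Submodule.finrank_mono (inf_le_inf_right _ le_top)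
    refine ⟨j, hjA, by rw [h1, add_comm], hkkle, ?_, ?_⟩
    · intro h0
      have hfin : Module.finrank F W = cc F r * j := by rw [h1, h0, zero_add]
      exact hWpl.symm.trans (hT0 F V Q T r hr hr2 hrF hQ hiso hpow W j hWinv hWnd h0 hfin)
    · intro hfull hne
      -- `K ≤ W`
      have hKW : W ⊓ K = K := by
        apply Submodule.eq_of_le_of_finrank_eq inf_le_right
        have : kk T W = Module.finrank F ↥(W ⊓ K) := rfl
        rw [← this, hfull, hkkK]
      have hRinv : R ∈ T.invtSubmodule := by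
        rw [Module.End.mem_invtSubmodule]
        rintro u ⟨w, rfl⟩
        rw [Submodule.mem_comap]
        refine ⟨T w, ?_⟩
        simp [map_sub]
      have hW₁inv : W ⊓ R ∈ T.invtSubmodule := Module.End.invtSubmodule.inf_mem hWinv hRinv
      have hWsplit : K ⊔ (W ⊓ R) = W := by
        have := hsplit W hWinv
        rw [hKW] at this
        exact this
      have hW₁perp : W ⊓ R ≤ perp B K := inf_le_right.trans hRperp
      have hW₁nd : (W ⊓ R) ⊓ perp B (W ⊓ R) = ⊥ := by
        rw [eq_bot_iff]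
        intro x hx
        obtain ⟨hx1, hx2⟩ := hx
        have hxW : x ∈ W ⊓ perp B W := by
          refine ⟨hx1.1, ?_⟩
          intro u hu
          rw [← hWsplit] at hu
          obtain ⟨k, hk, w, hw, rfl⟩ := Submodule.mem_sup.mp hu
          rw [map_add, LinearMap.add_apply, hx2 w hw, add_zero]
          exact hW₁perp hx1 k hk
        rw [hWnd'] at hxW
        exact hxW
      have hW₁K : (W ⊓ R) ⊓ K = ⊥ := by
        rw [eq_bot_iff]
        intro x hx
        have : x ∈ K ⊓ R := ⟨hx.2, hx.1.2⟩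
        rw [hKR] at this
        exact this
      obtain ⟨j'', h1'', -⟩ := hshape (W ⊓ R) hW₁inv hW₁nd
      have hkk0 : kk T (W ⊓ R) = 0 := by
        unfold kk; rw [hW₁K]; simp
      rw [hkk0, zero_add] at h1''
      obtain ⟨-, htype₁⟩ := hfree (W ⊓ R) j'' hW₁inv hW₁nd hW₁K h1''
      obtain ⟨-, hfinsum, hsum⟩ := hQS F V Q K (W ⊓ R) hKQ ((hNd _).mpr hW₁nd)
        (horthK _ hW₁perp) hKeven (by rw [h1'']; exact hceven.mul_right j'')
      rw [hWsplit] at hfinsum hsum
      have hjj : j = j'' := by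
        have h4 : kk T W = Module.finrank F K := by rw [hfull, hkkK]
        rw [h1, h4, h1''] at hfinsum
        exact Nat.eq_of_mul_eq_mul_left hcpos (Nat.add_left_cancel hfinsum)
      rw [← hjj] at htype₁
      have h6 : Even (A - j) ↔ (Even A ↔ Even j) := Nat.even_sub hjA
      exact (hWpl.symm.trans hsum).trans (so_logic hKtype htype₁ h6)

example (hT0 : Cfsg.Agent.H48.Ep.StType0.{u, v}) (hQS : Cfsg.Agent.H48.Ep.StQSum.{u, v})
    (hQB : Cfsg.Agent.H48.Ep.StQBoth2.{u, v}) : Cfsg.Agent.H48.Ep.StStructEven.{u, v} :=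
  structEven hT0 hQS hQB

end Cfsg.Agent.H95.Ep
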