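import Mathlib
import Cfsg.Agent.H95.HupDefs
import Cfsg.Agent.H77.RegPB

/-!
# Huppert's theorem (S3360): final assembly from the pieces (helper95)
-/

set_option autoImplicit false

universe u w

namespace Cfsg.Agent.H95.Hup

theorem card_eq_pow_finrank (q : ℕ) [Fact q.Prime] {V : Type u} [AddCommGroup V]
    [Module (ZMod q) V] [Finite V] : Nat.card V = q ^ Module.finrank (ZMod q) V := by
  rw [Module.natCard_eq_pow_finrank (K := ZMod q) (V := V), Nat.card_zmod]

theorem pCore_normal' (p : ℕ) (G : Type w) [Group G] : (Cfsg.pCore p G).Normal :=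
  Subgroup.sSup_normal _ (fun _ h => h.1)

/-- The space with 64 elements. -/
theorem case64 (h64A : S64AStmt.{u, w}) (h64B : S64BStmt.{u, w}) (h64C : S64CStmt.{u, w})
    (h64D : S64DStmt.{u, w})
    (q : ℕ) [Fact q.Prime] {V : Type u} [AddCommGroup V] [Module (ZMod q) V] [Finite V]
    [Nontrivial V] {G : Type w} [Group G] [Finite G] (hsol : Group.IsSolvable G)
    (ρ : G →* (V ≃ₗ[ZMod q] V)) (hρ : Function.Injective ρ) (hT : Trans q ρ)
    (h2 : q = 2) (hV64 : Nat.card V = 64) : HasIrrAb q ρ := by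
  subst h2
  have hA := h64A ρ hsol hρ hT hV64
  obtain ⟨y, hy7, hyF, hyB⟩ := h64B ρ hρ hT hV64 hA
  have hBn : (Subgroup.zpowers y).Normal := by
    rw [← hyB]
    exact pCore_normal' 7 G
  exact h64D ρ hsol hρ hT hV64 y hy7 hyB (fun N hN hNab hNy =>
    h64C ρ hρ hT hV64 y hy7 hyF hBn N hN hNab hNy)

theorem main (hDvd : DvdStmt.{u, w}) (hOne : OneStmt.{u, w}) (hR2A : R2AStmt.{u, w})
    (hR2D : R2DStmt.{u, w}) (hR2B : R2BStmt.{u, w}) (hDich : DichStmt.{u, w}) (hArith : ArithStmt)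
    (h64A : S64AStmt.{u, w}) (h64B : S64BStmt.{u, w}) (h64C : S64CStmt.{u, w})
    (h64D : S64DStmt.{u, w})
    (q : ℕ) [Fact q.Prime] {V : Type u} [AddCommGroup V] [Module (ZMod q) V] [Finite V]
    [Nontrivial V] {G : Type w} [Group G] [Finite G] (hsol : Group.IsSolvable G)
    (ρ : G →* (V ≃ₗ[ZMod q] V)) (hρ : Function.Injective ρ)
    (htrans : ∀ v w : V, v ≠ 0 → w ≠ 0 → ∃ g : G, ρ g v = w) :
    (∃ (F : Type) (_ : Field F) (_ : Fintype F) (e : V ≃+ F),
        ∀ g : G, ∃ (a : F) (σ : F ≃+* F), ∀ v : V, e (ρ g v) = a * σ (e v)) ∨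
    Nat.card V ∈ ({9, 25, 49, 121, 529, 81} : Set ℕ) := by
  have hq : q.Prime := Fact.out
  suffices h : HasIrrAb q ρ ∨ Nat.card V ∈ ({9, 25, 49, 121, 529, 81} : Set ℕ) by
    rcases h with ⟨A, hAn, hAc, hirr⟩ | h
    · exact Or.inl (Cfsg.Agent.H77.Reg.semilinear_of_irred q ρ A hAn hAc hirr)
    · exact Or.inr h
  have hT : Trans q ρ := htrans
  obtain ⟨n, hn⟩ : ∃ n, n = Module.finrank (ZMod q) V := ⟨_, rfl⟩
  have hV : Nat.card V = q ^ n := by rw [hn]; exact card_eq_pow_finrank q
  have hn1 : 1 ≤ n := by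
    by_contra hcon
    have h0 : n = 0 := by omega
    rw [h0, pow_zero] at hV
    have := Finite.one_lt_card (α := V)
    omega
  rcases Nat.lt_or_ge n 3 with hlt | hge
  · -- `n = 1` or `n = 2`
    have hcases : n = 1 ∨ n = 2 := by omega
    rcases hcases with h1 | h2
    · rw [h1, pow_one] at hV
      exact Or.inl (hOne q ρ hρ hV)
    · rw [h2] at hV
      by_cases hI : HasIrrAb q ρ
      · exact Or.inl hI
      · right
        have hscal : ∀ N : Subgroup G, N.Normal → (∀ a ∈ N, ∀ b ∈ N, a * b = b * a) →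
            ∀ g ∈ N, IsScal q ρ g := fun N hN hNab =>
          (hR2A q ρ hρ hT hV N hN hNab).resolve_left hI
        obtain ⟨D, hDn, hDq, hDc, hDs, hDz, hDna⟩ := hR2D q ρ hsol hρ hT hV hscal
        obtain ⟨hq2, hdvd⟩ := hR2B q ρ hρ hV D hDn hDq hDc hDs hDz hDna
        have hd1 := hDvd q ρ hT
        rw [hV] at hd1
        have hd2 : q ^ 2 - 1 ∣ 24 * (q - 1) := hd1.trans hdvd
        have hq1 : 2 ≤ q := hq.two_le
        have e1 : q ^ 2 - 1 = (q + 1) * (q - 1) := by
          obtain ⟨k, hk⟩ : ∃ k, q = k + 1 := ⟨q - 1, by omega⟩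
          rw [hk]
          simp only [Nat.add_sub_cancel]
          have : (k + 1) ^ 2 = (k + 1 + 1) * k + 1 := by ring
          omega
        rw [e1] at hd2
        have hd3 : q + 1 ∣ 24 := (Nat.mul_dvd_mul_iff_right (by omega : 0 < q - 1)).mp hd2
        have hle : q + 1 ≤ 24 := Nat.le_of_dvd (by norm_num) hd3
        have hq23 : q ≤ 23 := by omega
        rw [hV]
        clear hd1 hd2 e1 hdvd hDq hV hscal hI hT htrans hρ
        have hcl : q = 3 ∨ q = 5 ∨ q = 7 ∨ q = 11 ∨ q = 23 := by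
          clear hDn hDc hDs hDz hDna
          revert hq hq2 hd3
          clear * - hq23
          interval_cases q <;> intro hq hq2 hd3 <;> first | omega | (exfalso; revert hq; decide) | (exfalso; revert hd3; decide)
        rcases hcl with h | h | h | h | h <;> rw [h] <;> simp
  · by_cases h26 : q = 2 ∧ n = 6
    · -- the space with 64 elements
      obtain ⟨h2, h6⟩ := h26
      rw [h6, h2] at hV
      have hV64 : Nat.card V = 64 := by rw [hV]; norm_num
      exact Or.inl (case64 h64A h64B h64C h64D q hsol ρ hρ hT h2 hV64)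
    · by_cases hI : HasIrrAb q ρ
      · exact Or.inl hI
      · right
        have h81 := hArith q n hq hge h26 (fun r hr hrd hprim =>
          (hDich q ρ hsol hρ hT n r (by omega) hV hr hrd hprim).resolve_left hI)
        rw [hV, h81]
        simp

end Cfsg.Agent.H95.Hup
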