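import Mathlib
import Cfsg.Agent.H88.JcDefs

/-!
# JC-MB: the module bound (piece for helper88's W4 clause, S2948 / S2949)

An abelian group `S` of exponent 2 of automorphisms of an elementary abelian 2-group `M`
whose only fixed points are `1` and `c ≠ 1` has order at most `|M| / 2`.
-/

set_option autoImplicit false

namespace Cfsg.Agent.H95.Jc

open Cfsg.Agent.H88.Jc

universe u

/-- The commutative form of the module bound. -/
theorem mb_comm {M : Type u} [CommGroup M] [Finite M] (hexp : ∀ m : M, m * m = 1)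
    (S : Subgroup (MulAut M)) (hab : ∀ σ ∈ S, ∀ τ ∈ S, σ * τ = τ * σ)
    (hinv : ∀ σ ∈ S, σ * σ = 1) (c : M) (hc : c ≠ 1) (hcfix : ∀ σ ∈ S, σ c = c)
    (hfix : ∀ m : M, (∀ σ ∈ S, σ m = m) → m = 1 ∨ m = c) :
    2 * Nat.card ↥S ≤ Nat.card M := by
  classical
  letI : Module (ZMod 2) (Additive M) := AddCommGroup.zmodModule (n := 2) (by
    intro x
    rw [two_nsmul]
    exact congrArg Additive.ofMul (hexp x.toMul))
  obtain ⟨φ, hφ⟩ : ∃ φ : Module.Dual (ZMod 2) (Additive M), φ (Additive.ofMul c) ≠ 0 := by
    apply Module.Projective.exists_dual_ne_zero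
    intro h
    exact hc (Additive.ofMul.injective h)
  have hφ1 : φ (Additive.ofMul c) = 1 := by
    have : ∀ z : ZMod 2, z ≠ 0 → z = 1 := by decide
    exact this _ hφ
  have hχmul : ∀ x y : M, φ (Additive.ofMul (x * y)) =
      φ (Additive.ofMul x) + φ (Additive.ofMul y) := by
    intro x y
    exact map_add φ (Additive.ofMul x) (Additive.ofMul y)
  have hχone : φ (Additive.ofMul (1 : M)) = 0 := map_zero φ
  have hχinv : ∀ x : M, φ (Additive.ofMul x⁻¹) = φ (Additive.ofMul x) := by
    intro x
    rw [inv_eq_of_mul_eq_one_left (hexp x)]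
  -- the key injectivity
  have hkey : ∀ σ ∈ S, ∀ τ ∈ S,
      (∀ x : M, φ (Additive.ofMul (σ x)) = φ (Additive.ofMul (τ x))) → σ = τ := by
    intro σ hσ τ hτ hst
    -- the invariant subgroup N
    let N : Subgroup M :=
      { carrier := {w | ∀ k ∈ S, φ (Additive.ofMul (k w)) = 0}
        one_mem' := by
          intro k _
          simp
        mul_mem' := by
          intro a b ha hb k hk
          rw [map_mul, hχmul, ha k hk, hb k hk, add_zero]
        inv_mem' := by
          intro a ha k hk
          rw [map_inv, hχinv, ha k hk] }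
    have hNmem : ∀ w : M, w ∈ N ↔ ∀ k ∈ S, φ (Additive.ofMul (k w)) = 0 := fun w => Iff.rfl
    have hNinv : ∀ k ∈ S, ∀ w ∈ N, k w ∈ N := by
      intro k hk w hw k' hk'
      have := hw (k' * k) (S.mul_mem hk' hk)
      simpa using this
    have hcN : c ∉ N := by
      intro h
      have := h 1 S.one_mem
      rw [MulAut.one_apply] at this
      exact hφ this
    have hNbot : N = ⊥ := by
      by_contra hne
      have hNp : IsPGroup 2 ↥N := by
        intro g
        refine ⟨1, ?_⟩
        rw [pow_one, pow_two]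
        exact Subtype.ext (hexp g.1)
      have hSp : IsPGroup 2 ↥S := by
        intro g
        refine ⟨1, ?_⟩
        rw [pow_one, pow_two]
        exact Subtype.ext (hinv g.1 g.2)
      haveI : Fact (Nat.Prime 2) := ⟨Nat.prime_two⟩
      have hdvd : 2 ∣ Nat.card ↥N := by
        rcases hNp.card_eq_or_dvd with h1 | h2
        · exact absurd (Subgroup.card_eq_one.1 h1) hne
        · exact h2
      letI act : MulAction ↥S ↥N :=
        { smul := fun k w => ⟨k.1 w.1, hNinv k.1 k.2 w.1 w.2⟩
          one_smul := fun w => Subtype.ext rfl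
          mul_smul := fun k k' w => Subtype.ext rfl }
      have h1fix : (1 : ↥N) ∈ MulAction.fixedPoints ↥S ↥N := by
        intro k
        exact Subtype.ext (map_one k.1)
      obtain ⟨b, hb, hb1⟩ :=
        hSp.exists_fixed_point_of_prime_dvd_card_of_fixed_point (↥N) hdvd h1fix
      have hbfix : ∀ k ∈ S, k b.1 = b.1 := by
        intro k hk
        exact congrArg Subtype.val (hb ⟨k, hk⟩)
      rcases hfix b.1 hbfix with h | h
      · exact hb1 (Subtype.ext h.symm)
      · exact hcN (h ▸ b.2)
    -- u = σ τ⁻¹ is trivial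
    have hu : ∀ v : M, σ (τ⁻¹ v) = v := by
      intro v
      have hmem : σ (τ⁻¹ v) * v⁻¹ ∈ N := by
        intro k hk
        have h1 : k (σ (τ⁻¹ v) * v⁻¹) = σ (τ⁻¹ (k v)) * (k v)⁻¹ := by
          rw [map_mul, map_inv]
          congr 1
          have e1 : k (σ (τ⁻¹ v)) = (k * (σ * τ⁻¹)) v := rfl
          have e2 : σ (τ⁻¹ (k v)) = ((σ * τ⁻¹) * k) v := rfl
          rw [e1, e2, hab k hk (σ * τ⁻¹) (S.mul_mem hσ (S.inv_mem hτ))]
        rw [h1, hχmul, hχinv, hst (τ⁻¹ (k v))]
        have e3 : τ (τ⁻¹ (k v)) = k v := by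
          have : τ (τ⁻¹ (k v)) = (τ * τ⁻¹) (k v) := rfl
          rw [this, mul_inv_cancel, MulAut.one_apply]
        rw [e3]
        exact CharTwo.add_self_eq_zero _
      rw [hNbot, Subgroup.mem_bot] at hmem
      exact mul_inv_eq_one.1 hmem
    ext v
    have := hu (τ v)
    have e : τ⁻¹ (τ v) = v := by
      have : τ⁻¹ (τ v) = (τ⁻¹ * τ) v := rfl
      rw [this, inv_mul_cancel, MulAut.one_apply]
    rw [e] at this
    exact this
  -- the linear version of an automorphism
  let lin : MulAut M → (Additive M →ₗ[ZMod 2] Additive M) := fun σ =>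
    (MonoidHom.toAdditive (σ : M ≃* M).toMonoidHom).toZModLinearMap 2
  have hlin : ∀ (σ : MulAut M) (x : M), lin σ (Additive.ofMul x) = Additive.ofMul (σ x) :=
    fun σ x => rfl
  let F : ↥S × ZMod 2 → Module.Dual (ZMod 2) (Additive M) :=
    fun p => φ ∘ₗ lin p.1.1 + p.2 • φ
  have hFapp : ∀ (p : ↥S × ZMod 2) (x : M),
      F p (Additive.ofMul x) = φ (Additive.ofMul (p.1.1 x)) + p.2 * φ (Additive.ofMul x) := by
    intro p x
    rfl
  have hFinj : Function.Injective F := by
    rintro ⟨σ, i⟩ ⟨τ, j⟩ h
    have hc1 := congrArg (fun f : Module.Dual (ZMod 2) (Additive M) => f (Additive.ofMul c)) h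
    simp only [hFapp, hcfix σ.1 σ.2, hcfix τ.1 τ.2, hφ1, mul_one] at hc1
    have hij : i = j := add_left_cancel hc1
    subst hij
    have hst : σ = τ := by
      apply Subtype.ext
      apply hkey σ.1 σ.2 τ.1 τ.2
      intro x
      have hx := congrArg (fun f : Module.Dual (ZMod 2) (Additive M) => f (Additive.ofMul x)) h
      simp only [hFapp] at hx
      exact add_right_cancel hx
    rw [hst]
  haveI : Finite (Module.Dual (ZMod 2) (Additive M)) :=
    Finite.of_injective (fun f => (f : Additive M → ZMod 2)) DFunLike.coe_injective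
  have hle := Nat.card_le_card_of_injective F hFinj
  have hcardD : Nat.card (Module.Dual (ZMod 2) (Additive M)) = Nat.card M := by
    rw [Module.natCard_eq_pow_finrank (K := ZMod 2) (V := Module.Dual (ZMod 2) (Additive M)),
      Subspace.dual_finrank_eq]
    have := Module.natCard_eq_pow_finrank (K := ZMod 2) (V := Additive M)
    rw [← this]
    rfl
  rw [Nat.card_prod, Nat.card_zmod, hcardD] at hle
  omega

theorem mb : StMB.{u} := by
  intro M _ _ hexp S hab hinv c hc hcfix hfix
  have hcomm : ∀ a b : M, a * b = b * a := by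
    intro a b
    have hai : a⁻¹ = a := inv_eq_of_mul_eq_one_left (hexp a)
    have hbi : b⁻¹ = b := inv_eq_of_mul_eq_one_left (hexp b)
    have habi : (a * b)⁻¹ = a * b := inv_eq_of_mul_eq_one_left (hexp (a * b))
    rw [mul_inv_rev, hai, hbi] at habi
    exact habi.symm
  letI : CommGroup M := { (inferInstance : Group M) with mul_comm := hcomm }
  exact mb_comm hexp S hab hinv c hc hcfix hfix

example : StMB.{u} := mb

end Cfsg.Agent.H95.Jc

#print axioms Cfsg.Agent.H95.Jc.mb
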