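import Mathlib
import Cfsg.Agent.H28.JkDefs

/-!
# JK-TI (piece for helper28's JZ-KILL sub-project, S2951 / S2952)

If every element of `V = Ω₁Z(O₂(L))` is `L`-conjugate into `C(J)` and every 2-local over `J`
lies in the self-normalizing 2-local `L`, then `C_G(u) ≤ L` for `u ∈ V#` and `V ∩ V^g ≠ 1`
forces `g ∈ L`.
-/

set_option autoImplicit false
open Cfsg

namespace Cfsg.Agent.H95.Jk

open Cfsg.Agent.H28.Jk

universe u

/-- `Ω₁(Z(X))` has exponent 2. -/
theorem omegaCenterOf_sq {G : Type u} [Group G] (X : Subgroup G) :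
    ∀ v ∈ omegaCenterOf X, v * v = 1 := by
  intro v hv
  unfold omegaCenterOf omegaOne at hv
  have hle : Subgroup.closure {x : G | x ∈ X ⊓ Subgroup.centralizer (X : Set G) ∧ x ^ 2 = 1} ≤
      X ⊓ Subgroup.centralizer (X : Set G) := by
    rw [Subgroup.closure_le]
    intro x hx
    exact hx.1
  induction hv using Subgroup.closure_induction with
  | mem x hx => rw [← pow_two]; exact hx.2
  | one => simp
  | mul x y hx hy ihx ihy =>
    have hxZ := hle hx
    have hyZ := hle hy
    have hcomm : y * x = x * y := (Subgroup.mem_centralizer_iff.1 hxZ.2) y hyZ.1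
    calc x * y * (x * y) = x * (y * x) * y := by group
      _ = x * (x * y) * y := by rw [hcomm]
      _ = (x * x) * (y * y) := by group
      _ = 1 := by rw [ihx, ihy, one_mul]
  | inv x hx ih =>
    calc x⁻¹ * x⁻¹ = (x * x)⁻¹ := by group
      _ = 1 := by rw [ih, inv_one]

/-- The centralizer of an element normalizes the cyclic group it generates. -/
theorem centralizer_le_normalizer_zpowers {G : Type u} [Group G] (a : G) :
    Subgroup.centralizer ({a} : Set G) ≤ Subgroup.normalizer (Subgroup.zpowers a : Set G) := by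
  intro c hc
  have hca : a * c = c * a := (Subgroup.mem_centralizer_iff.1 hc) a rfl
  have hcz : ∀ z ∈ Subgroup.zpowers a, c * z * c⁻¹ = z := by
    intro z hz
    obtain ⟨n, rfl⟩ := Subgroup.mem_zpowers_iff.1 hz
    have h1 : Commute c a := hca.symm
    have h2 : Commute c (a ^ n) := h1.zpow_right n
    rw [h2.eq, mul_inv_cancel_right]
  have hcz' : ∀ z ∈ Subgroup.zpowers a, c⁻¹ * z * c = z := by
    intro z hz
    have := hcz z hz
    calc c⁻¹ * z * c = c⁻¹ * (c * z * c⁻¹) * c := by rw [this]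
      _ = z := by group
  rw [Subgroup.mem_normalizer_iff]
  intro z
  constructor
  · intro hz
    rw [hcz z hz]; exact hz
  · intro hz
    have := hcz' _ hz
    have e : c⁻¹ * (c * z * c⁻¹) * c = z := by group
    rw [e] at this
    rw [this]; exact hz

/-- Membership in a conjugate subgroup. -/
theorem mem_map_conj_iff {G : Type u} [Group G] (T : Subgroup G) (h z : G) :
    z ∈ T.map (MulAut.conj h).toMonoidHom ↔ h⁻¹ * z * h ∈ T := by
  simp only [Subgroup.mem_map, MulEquiv.coe_toMonoidHom, MulAut.conj_apply]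
  constructor
  · rintro ⟨t, ht, rfl⟩
    have e : h⁻¹ * (h * t * h⁻¹) * h = t := by group
    rw [e]; exact ht
  · intro hz
    exact ⟨h⁻¹ * z * h, hz, by group⟩

/-- Conjugates of normalizing elements normalize the conjugate subgroup. -/
theorem conj_mem_normalizer_map {G : Type u} [Group G] (T : Subgroup G) (h y : G)
    (hy : y ∈ Subgroup.normalizer (T : Set G)) :
    h * y * h⁻¹ ∈ Subgroup.normalizer ((T.map (MulAut.conj h).toMonoidHom : Subgroup G) : Set G) := by
  rw [Subgroup.mem_normalizer_iff]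
  intro z
  rw [mem_map_conj_iff, mem_map_conj_iff]
  have e : h⁻¹ * (h * y * h⁻¹ * z * (h * y * h⁻¹)⁻¹) * h = y * (h⁻¹ * z * h) * y⁻¹ := by group
  rw [e]
  exact (Subgroup.mem_normalizer_iff.1 hy) (h⁻¹ * z * h)

theorem kti : StKTI.{u} := by
  intro G _ _ J L hL hmax hNL hconj
  have hsq : ∀ v ∈ VV L, v * v = 1 := omegaCenterOf_sq (pCoreOf 2 L)
  -- centralizers of conjugates lying in `C(J)`
  have hF1 : ∀ u ∈ VV L, u ≠ 1 → ∀ l : G, l * u * l⁻¹ ∈ Subgroup.centralizer (J : Set G) →
      Subgroup.centralizer ({l * u * l⁻¹} : Set G) ≤ L := by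
    intro u hu hu1 l hl
    have hsq' : (l * u * l⁻¹) * (l * u * l⁻¹) = 1 := by
      calc (l * u * l⁻¹) * (l * u * l⁻¹) = l * (u * u) * l⁻¹ := by group
        _ = 1 := by rw [hsq u hu]; group
    have hne : l * u * l⁻¹ ≠ 1 := by
      intro h
      apply hu1
      have : u = l⁻¹ * (l * u * l⁻¹) * l := by group
      rw [this, h]; group
    have h2 : IsPGroup 2 ↥(Subgroup.zpowers (l * u * l⁻¹)) := by
      rintro ⟨z, hz⟩
      refine ⟨1, ?_⟩
      apply Subtype.ext
      obtain ⟨n, rfl⟩ := Subgroup.mem_zpowers_iff.1 hz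
      simp only [pow_one, Subgroup.coe_pow, Subgroup.coe_one]
      rw [← zpow_natCast, ← zpow_mul, mul_comm, zpow_mul, zpow_natCast, pow_two, hsq', one_zpow]
    have hbot : Subgroup.zpowers (l * u * l⁻¹) ≠ ⊥ := by
      intro h
      apply hne
      have : l * u * l⁻¹ ∈ (⊥ : Subgroup G) := h ▸ Subgroup.mem_zpowers _
      exact Subgroup.mem_bot.1 this
    have hloc : IsTwoLocal (Subgroup.normalizer (Subgroup.zpowers (l * u * l⁻¹) : Set G)) :=
      ⟨_, h2, hbot, rfl⟩
    have hJ : J ≤ Subgroup.normalizer (Subgroup.zpowers (l * u * l⁻¹) : Set G) := by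
      intro j hj
      apply centralizer_le_normalizer_zpowers
      rw [Subgroup.mem_centralizer_iff]
      intro a ha
      rw [Set.mem_singleton_iff] at ha
      rw [ha]
      exact ((Subgroup.mem_centralizer_iff.1 hl) j hj).symm
    exact (centralizer_le_normalizer_zpowers _).trans (hmax _ hloc hJ)
  -- part 1
  have hP1 : ∀ u ∈ VV L, u ≠ 1 → Subgroup.centralizer ({u} : Set G) ≤ L := by
    intro u hu hu1 c hc
    obtain ⟨l, hl, hlu⟩ := hconj u hu
    have h1 := hF1 u hu hu1 l hlu
    have hcu : u * c = c * u := (Subgroup.mem_centralizer_iff.1 hc) u rfl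
    have h2 : l * c * l⁻¹ ∈ Subgroup.centralizer ({l * u * l⁻¹} : Set G) := by
      rw [Subgroup.mem_centralizer_iff]
      intro a ha
      rw [Set.mem_singleton_iff] at ha
      rw [ha]
      calc l * u * l⁻¹ * (l * c * l⁻¹) = l * (u * c) * l⁻¹ := by group
        _ = l * (c * u) * l⁻¹ := by rw [hcu]
        _ = l * c * l⁻¹ * (l * u * l⁻¹) := by group
    have h3 := h1 h2
    have e : c = l⁻¹ * (l * c * l⁻¹) * l := by group
    rw [e]
    exact L.mul_mem (L.mul_mem (L.inv_mem hl) h3) hl
  refine ⟨hP1, ?_⟩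
  -- part 2
  intro g hne
  obtain ⟨u, hu1⟩ := (Subgroup.ne_bot_iff_exists_ne_one).1 hne
  obtain ⟨huV, hug⟩ := Subgroup.mem_inf.1 u.2
  have hu1' : (u : G) ≠ 1 := fun h => hu1 (Subtype.ext h)
  rw [mem_map_conj_iff] at hug
  -- v := g⁻¹ u g ∈ V, v ≠ 1
  have hv1 : g⁻¹ * (u : G) * g ≠ 1 := by
    intro h
    apply hu1'
    have : (u : G) = g * (g⁻¹ * (u : G) * g) * g⁻¹ := by group
    rw [this, h]; group
  obtain ⟨l, hl, hlu⟩ := hconj (u : G) huV
  have hCv := hP1 _ hug hv1
  obtain ⟨T, hT2, hTne, hLT⟩ := hL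
  -- h := l * g
  have hJ : J ≤ Subgroup.normalizer
      ((T.map (MulAut.conj (l * g)).toMonoidHom : Subgroup G) : Set G) := by
    intro j hj
    have hju : j * (l * (u : G) * l⁻¹) = l * (u : G) * l⁻¹ * j :=
      (Subgroup.mem_centralizer_iff.1 hlu) j hj
    have h1 : (l * g)⁻¹ * j * (l * g) ∈ Subgroup.centralizer ({g⁻¹ * (u : G) * g} : Set G) := by
      rw [Subgroup.mem_centralizer_iff]
      intro a ha
      rw [Set.mem_singleton_iff] at ha
      rw [ha]
      calc g⁻¹ * (u : G) * g * ((l * g)⁻¹ * j * (l * g))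
          = (l * g)⁻¹ * ((l * (u : G) * l⁻¹) * j) * (l * g) := by group
        _ = (l * g)⁻¹ * (j * (l * (u : G) * l⁻¹)) * (l * g) := by rw [hju]
        _ = (l * g)⁻¹ * j * (l * g) * (g⁻¹ * (u : G) * g) := by group
    have h2 : (l * g)⁻¹ * j * (l * g) ∈ Subgroup.normalizer (T : Set G) := by
      rw [← hLT]; exact hCv h1
    have h3 := conj_mem_normalizer_map T (l * g) _ h2
    have e : l * g * ((l * g)⁻¹ * j * (l * g)) * (l * g)⁻¹ = j := by group
    rw [e] at h3
    exact h3
  have hloc : IsTwoLocal (Subgroup.normalizer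
      ((T.map (MulAut.conj (l * g)).toMonoidHom : Subgroup G) : Set G)) := by
    refine ⟨_, hT2.map _, ?_, rfl⟩
    intro hbot
    apply hTne
    exact (Subgroup.map_eq_bot_iff_of_injective T (MulAut.conj (l * g)).injective).1 hbot
  have hXL := hmax _ hloc hJ
  have hconjL : ∀ x ∈ L, (l * g) * x * (l * g)⁻¹ ∈ L := by
    intro x hx
    apply hXL
    apply conj_mem_normalizer_map
    rw [← hLT]; exact hx
  -- `l * g` normalizes `L`
  have hmapL : L.map (MulAut.conj (l * g)).toMonoidHom = L := by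
    apply Subgroup.eq_of_le_of_card_ge
    · rintro _ ⟨x, hx, rfl⟩
      exact hconjL x hx
    · rw [Subgroup.card_map_of_injective (MulAut.conj (l * g)).injective]
  have hnorm : l * g ∈ Subgroup.normalizer (L : Set G) := by
    rw [Subgroup.mem_normalizer_iff]
    intro x
    constructor
    · exact hconjL x
    · intro hx
      rw [← hmapL] at hx
      rw [mem_map_conj_iff] at hx
      have e : (l * g)⁻¹ * ((l * g) * x * (l * g)⁻¹) * (l * g) = x := by group
      rw [e] at hx
      exact hx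
  have hlg : l * g ∈ L := hNL hnorm
  have e : g = l⁻¹ * (l * g) := by group
  rw [e]
  exact L.mul_mem (L.inv_mem hl) hlg

example : StKTI.{u} := kti

end Cfsg.Agent.H95.Jk

#print axioms Cfsg.Agent.H95.Jk.kti
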