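import Mathlib
import Cfsg.Agent.H74.TsDefs

/-!
# TS-K1B (piece for helper74's S2948 project)

`U := ⟨u⟩ Q` with `u = [d, a]`, by elements: no coprime-action library.
-/

set_option autoImplicit false

namespace Cfsg.Agent.H95.Ts

open Cfsg.Agent.H74.Ts

open scoped commutatorElement

universe u

theorem k1b : StK1B.{u} := by
  intro X _ _ C Q J D hCn hQn hQ2 hQC hodd hCJ hJ2 hCD hidx hJD hnot
  classical
  haveI : Fact (Nat.Prime 3) := ⟨Nat.prime_three⟩
  -- the two quotient maps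
  obtain ⟨π, hπsurj, hπker⟩ : ∃ π : X →* X ⧸ Q, Function.Surjective π ∧ π.ker = Q :=
    ⟨QuotientGroup.mk' Q, QuotientGroup.mk'_surjective Q, QuotientGroup.ker_mk' Q⟩
  obtain ⟨ρ, hρsurj, hρker⟩ : ∃ ρ : X →* X ⧸ C, Function.Surjective ρ ∧ ρ.ker = C :=
    ⟨QuotientGroup.mk' C, QuotientGroup.mk'_surjective C, QuotientGroup.ker_mk' C⟩
  have hπ1 : ∀ x : X, π x = 1 ↔ x ∈ Q := by
    intro x
    constructor
    · intro h
      have h' : x ∈ π.ker := MonoidHom.mem_ker.2 h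
      rwa [hπker] at h'
    · intro h
      have h' : x ∈ π.ker := by rw [hπker]; exact h
      exact MonoidHom.mem_ker.1 h'
  have hρ1 : ∀ x : X, ρ x = 1 ↔ x ∈ C := by
    intro x
    constructor
    · intro h
      have h' : x ∈ ρ.ker := MonoidHom.mem_ker.2 h
      rwa [hρker] at h'
    · intro h
      have h' : x ∈ ρ.ker := by rw [hρker]; exact h
      exact MonoidHom.mem_ker.1 h'
  have hπρ : ∀ x y : X, π x = π y → ρ x = ρ y := by
    intro x y h
    have h1 : π (x⁻¹ * y) = 1 := by rw [map_mul, map_inv, h, inv_mul_cancel]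
    have h2 : x⁻¹ * y ∈ C := hQC ((hπ1 _).1 h1)
    have h3 : ρ (x⁻¹ * y) = 1 := (hρ1 _).2 h2
    rw [map_mul, map_inv] at h3
    exact inv_mul_eq_one.1 h3
  have hrelQ : ∀ K : Subgroup X, Q.relIndex K = Nat.card ↥(K.map π) := by
    intro K
    have h := Subgroup.relIndex_comap (H := (⊥ : Subgroup (X ⧸ Q))) π K
    rw [MonoidHom.comap_bot, hπker, Subgroup.relIndex_bot_left] at h
    exact h
  have hrelC : ∀ K : Subgroup X, C.relIndex K = Nat.card ↥(K.map ρ) := by
    intro K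
    have h := Subgroup.relIndex_comap (H := (⊥ : Subgroup (X ⧸ C))) ρ K
    rw [MonoidHom.comap_bot, hρker, Subgroup.relIndex_bot_left] at h
    exact h
  have hcardD' : Nat.card ↥(D.map ρ) = 3 := by rw [← hrelC, hidx]
  -- J centralizes C modulo Q
  have hcent : ∀ b ∈ J, ∀ c ∈ C, π b * π c * (π b)⁻¹ = π c := by
    intro b hb c hc
    have h1 : ⁅c, b⁆ ∈ Q := hCJ (Subgroup.commutator_mem_commutator hc hb)
    have h2 : π (c * b * c⁻¹ * b⁻¹) = 1 := (hπ1 _).2 (by simpa [commutatorElement_def] using h1)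
    simp only [map_mul, map_inv] at h2
    have h3 : π c * π b = π b * π c := mul_inv_eq_iff_eq_mul.1 (mul_inv_eq_one.1 h2)
    rw [← h3, mul_inv_cancel_right]
  -- the stability lemma, by elements
  have hstab : ∀ b ∈ J, ∀ y : X, ρ (b * y * b⁻¹) = ρ y → π (b * y * b⁻¹) = π y := by
    intro b hb y hy
    have hcC : b * y * b⁻¹ * y⁻¹ ∈ C := by
      rw [← hρ1, map_mul, hy, map_inv, mul_inv_cancel]
    have hcb := hcent b hb _ hcC
    have hconj : π b * π y * (π b)⁻¹ = π (b * y * b⁻¹ * y⁻¹) * π y := by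
      simp only [map_mul, map_inv]; group
    have hpow : ∀ k : ℕ, (π b) ^ k * π y * ((π b) ^ k)⁻¹ = (π (b * y * b⁻¹ * y⁻¹)) ^ k * π y := by
      intro k
      induction k with
      | zero => simp
      | succ k ih =>
        have e1 : (π b) ^ (k + 1) * π y * ((π b) ^ (k + 1))⁻¹ =
            π b * ((π b) ^ k * π y * ((π b) ^ k)⁻¹) * (π b)⁻¹ := by
          rw [pow_succ']; group
        rw [e1, ih]
        have e2 : π b * ((π (b * y * b⁻¹ * y⁻¹)) ^ k * π y) * (π b)⁻¹ =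
            (π b * π (b * y * b⁻¹ * y⁻¹) * (π b)⁻¹) ^ k * (π b * π y * (π b)⁻¹) := by
          rw [conj_pow]; group
        rw [e2, hcb, hconj, pow_succ]
        exact (mul_assoc _ _ _).symm
    obtain ⟨m, hm⟩ := hJ2 ⟨b, hb⟩
    have hbm : b ^ 2 ^ m = 1 := by
      have := congrArg Subtype.val hm
      simpa using this
    have h1 := hpow (2 ^ m)
    rw [← map_pow, hbm, map_one, one_mul, inv_one, mul_one] at h1
    have hc1 : (π (b * y * b⁻¹ * y⁻¹)) ^ 2 ^ m = 1 :=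
      mul_right_cancel (h1.symm.trans (one_mul _).symm)
    have hd1 : orderOf (π (b * y * b⁻¹ * y⁻¹)) ∣ 2 ^ m := orderOf_dvd_of_pow_eq_one hc1
    have hd2 : orderOf (π (b * y * b⁻¹ * y⁻¹)) ∣ Q.relIndex C := by
      rw [hrelQ]
      exact Subgroup.orderOf_dvd_natCard _ (Subgroup.mem_map_of_mem π hcC)
    have hoddo : Odd (orderOf (π (b * y * b⁻¹ * y⁻¹))) := Odd.of_dvd_nat hodd hd2
    have hone : orderOf (π (b * y * b⁻¹ * y⁻¹)) = 1 := by
      have hcop : Nat.Coprime (orderOf (π (b * y * b⁻¹ * y⁻¹))) (2 ^ m) :=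
        Nat.Coprime.pow_right m (Nat.coprime_two_right.2 hoddo)
      exact Nat.Coprime.eq_one_of_dvd hcop hd1
    have hc0 : π (b * y * b⁻¹ * y⁻¹) = 1 := orderOf_eq_one_iff.1 hone
    have : π (b * y * b⁻¹) = π b * π y * (π b)⁻¹ := by simp only [map_mul, map_inv]
    rw [this, hconj, hc0, one_mul]
  -- groups of order 3
  have hZ3 : ∀ x ∈ D.map ρ, x ≠ 1 → ∀ y ∈ D.map ρ, y ≠ 1 → y = x ∨ y = x⁻¹ := by
    intro x hx hx1 y hy hy1
    have hox : orderOf x = 3 := by
      have h1 : orderOf x ∣ 3 := hcardD' ▸ Subgroup.orderOf_dvd_natCard _ hx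
      rcases (Nat.dvd_prime Nat.prime_three).1 h1 with h | h
      · exact absurd (orderOf_eq_one_iff.1 h) hx1
      · exact h
    have hz : Subgroup.zpowers x = D.map ρ := by
      apply Subgroup.eq_of_le_of_card_ge (Subgroup.zpowers_le.2 hx)
      rw [Nat.card_zpowers, hox, hcardD']
    rw [← hz] at hy
    have hy' : y ∈ Submonoid.powers x := mem_powers_iff_mem_zpowers.2 hy
    obtain ⟨k, hk⟩ := (Submonoid.mem_powers_iff _ _).1 hy'
    rw [← pow_mod_orderOf, hox] at hk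
    have hk3 : k % 3 < 3 := Nat.mod_lt _ (by norm_num)
    generalize k % 3 = r at hk hk3
    subst hk
    interval_cases r
    · exact absurd (pow_zero x) hy1
    · left; exact pow_one x
    · right
      apply eq_inv_of_mul_eq_one_left
      rw [← pow_succ]
      have h3 := pow_orderOf_eq_one x
      rw [hox] at h3
      exact h3
  -- choose d, a
  obtain ⟨d, hd, a, ha, hda⟩ : ∃ d ∈ D, ∃ a ∈ J, ⁅d, a⁆ ∉ C := by
    by_contra hcon
    push Not at hcon
    exact hnot ((Subgroup.commutator_le).2 hcon)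
  have hJD' : ∀ b ∈ J, ∀ y ∈ D, b * y * b⁻¹ ∈ D := by
    intro b hb y hy
    exact ((Subgroup.mem_normalizer_iff).1 (hJD hb) y).1 hy
  obtain ⟨u, hu⟩ : ∃ u : X, u = d * a * d⁻¹ * a⁻¹ := ⟨_, rfl⟩
  have huC : u ∉ C := by
    rw [hu]
    simpa [commutatorElement_def] using hda
  have hu' : u = d * (a * d⁻¹ * a⁻¹) := by rw [hu]; group
  have hu'' : u = d * (a * d * a⁻¹)⁻¹ := by rw [hu]; group
  have huD : u ∈ D := by
    rw [hu']; exact D.mul_mem hd (hJD' a ha _ (D.inv_mem hd))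
  have hdC : d ∉ C := by
    intro h
    apply huC
    rw [hu']
    exact C.mul_mem h (hCn.conj_mem _ (C.inv_mem h) a)
  -- a inverts ρ d
  have hρd : ρ (a * d * a⁻¹) = (ρ d)⁻¹ := by
    have hx : ρ d ∈ D.map ρ := Subgroup.mem_map_of_mem ρ hd
    have hx1 : ρ d ≠ 1 := fun h => hdC ((hρ1 d).1 h)
    have hy : ρ (a * d * a⁻¹) ∈ D.map ρ := Subgroup.mem_map_of_mem ρ (hJD' a ha d hd)
    have hy1 : ρ (a * d * a⁻¹) ≠ 1 := by
      intro h
      have h2 := (hρ1 _).1 h
      apply hdC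
      have : d = a⁻¹ * (a * d * a⁻¹) * a⁻¹⁻¹ := by group
      rw [this]; exact hCn.conj_mem _ h2 a⁻¹
    rcases hZ3 _ hx hx1 _ hy hy1 with h | h
    · exfalso
      apply huC
      rw [← hρ1, hu'', map_mul, map_inv, h, mul_inv_cancel]
    · exact h
  -- a² centralizes d modulo Q
  have ha2 : π (a * a * d * (a * a)⁻¹) = π d := by
    apply hstab (a * a) (J.mul_mem ha ha) d
    have e : a * a * d * (a * a)⁻¹ = a * (a * d * a⁻¹) * a⁻¹ := by group
    rw [e, map_mul, map_mul, hρd, map_inv]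
    have h2 : ρ a * (ρ d)⁻¹ * (ρ a)⁻¹ = (ρ (a * d * a⁻¹))⁻¹ := by
      simp only [map_mul, map_inv]; group
    rw [h2, hρd, inv_inv]
  -- a inverts u modulo Q
  have hau : π (a * u * a⁻¹) = (π u)⁻¹ := by
    have e : a * u * a⁻¹ = (a * d * a⁻¹) * (a * a * d * (a * a)⁻¹)⁻¹ := by rw [hu]; group
    have e1 : π (a * u * a⁻¹) = π (a * d * a⁻¹) * (π d)⁻¹ := by
      rw [e, map_mul π (a * d * a⁻¹) _, map_inv, ha2]
    have e2 : π u = π d * (π (a * d * a⁻¹))⁻¹ := by
      rw [hu'', map_mul π d _, map_inv]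
    rw [e1, e2, mul_inv_rev, inv_inv]
  have hū1 : π u ≠ 1 := fun h => huC (hQC ((hπ1 u).1 h))
  have hu3C : u ^ 3 ∈ C := by
    rw [← hρ1, map_pow]
    have h1 : orderOf (ρ u) ∣ 3 :=
      hcardD' ▸ Subgroup.orderOf_dvd_natCard _ (Subgroup.mem_map_of_mem ρ huD)
    exact orderOf_dvd_iff_pow_eq_one.1 h1
  have hū3 : (π u) ^ 3 = 1 := by
    have h1 : π a * π (u ^ 3) * (π a)⁻¹ = π (u ^ 3) := hcent a ha _ hu3C
    have h2 : π a * π (u ^ 3) * (π a)⁻¹ = ((π u) ^ 3)⁻¹ := by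
      rw [map_pow, ← conj_pow, ← inv_pow, ← hau]
      simp only [map_mul, map_inv]
    rw [h2, map_pow] at h1
    have h3 : ((π u) ^ 3) ^ 2 = 1 := by
      rw [pow_two]; nth_rewrite 1 [← h1]; exact inv_mul_cancel _
    have h4 : orderOf ((π u) ^ 3) ∣ 2 := orderOf_dvd_of_pow_eq_one h3
    have h5 : orderOf ((π u) ^ 3) ∣ Q.relIndex C := by
      rw [hrelQ]
      apply Subgroup.orderOf_dvd_natCard
      rw [← map_pow]
      exact Subgroup.mem_map_of_mem π hu3C
    have h6 : orderOf ((π u) ^ 3) = 1 := by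
      rcases (Nat.dvd_prime Nat.prime_two).1 h4 with h | h
      · exact h
      · exfalso
        rw [h] at h5
        exact (Nat.not_even_iff_odd.2 hodd) (even_iff_two_dvd.2 h5)
    exact orderOf_eq_one_iff.1 h6
  have hoū : orderOf (π u) = 3 := orderOf_eq_prime hū3 hū1
  -- every element of J centralizes or inverts u modulo Q
  have hJu : ∀ b ∈ J, π b * π u * (π b)⁻¹ = π u ∨ π b * π u * (π b)⁻¹ = (π u)⁻¹ := by
    intro b hb
    have hx : ρ u ∈ D.map ρ := Subgroup.mem_map_of_mem ρ huD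
    have hx1 : ρ u ≠ 1 := fun h => huC ((hρ1 u).1 h)
    have hy : ρ (b * u * b⁻¹) ∈ D.map ρ := Subgroup.mem_map_of_mem ρ (hJD' b hb u huD)
    have hy1 : ρ (b * u * b⁻¹) ≠ 1 := by
      intro h
      have h2 := (hρ1 _).1 h
      apply huC
      have : u = b⁻¹ * (b * u * b⁻¹) * b⁻¹⁻¹ := by group
      rw [this]; exact hCn.conj_mem _ h2 b⁻¹
    rcases hZ3 _ hx hx1 _ hy hy1 with h | h
    · left
      have := hstab b hb u h
      rw [map_mul, map_mul, map_inv] at this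
      exact this
    · right
      have e : b * a * u * (b * a)⁻¹ = b * (a * u * a⁻¹) * b⁻¹ := by group
      have h1 : ρ (b * a * u * (b * a)⁻¹) = ρ u := by
        rw [e]
        have h2 : ρ (a * u * a⁻¹) = ρ u⁻¹ := hπρ _ _ (by rw [hau, map_inv])
        rw [map_mul, map_mul, h2, map_inv, map_inv]
        have h3 : ρ b * (ρ u)⁻¹ * (ρ b)⁻¹ = (ρ (b * u * b⁻¹))⁻¹ := by
          simp only [map_mul, map_inv]; group
        rw [h3, h, inv_inv]
      have h4 := hstab (b * a) (J.mul_mem hb ha) u h1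
      rw [e, map_mul, map_mul, hau, map_inv] at h4
      have h5 : π b * π u * (π b)⁻¹ = (π b * (π u)⁻¹ * (π b)⁻¹)⁻¹ := by group
      rw [h5, h4]
  have hconjZ : ∀ g : X ⧸ Q, (g * π u * g⁻¹ = π u ∨ g * π u * g⁻¹ = (π u)⁻¹) →
      ∀ z ∈ Subgroup.zpowers (π u), g * z * g⁻¹ ∈ Subgroup.zpowers (π u) := by
    intro g hg z hz
    obtain ⟨k, rfl⟩ := Subgroup.mem_zpowers_iff.1 hz
    have : g * (π u) ^ k * g⁻¹ = (g * π u * g⁻¹) ^ k := by rw [conj_zpow]
    rw [this]
    rcases hg with h | h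
    · rw [h]; exact Subgroup.zpow_mem _ (Subgroup.mem_zpowers (π u)) k
    · rw [h]; exact Subgroup.zpow_mem _ (Subgroup.inv_mem _ (Subgroup.mem_zpowers (π u))) k
  have hJinv : ∀ b ∈ J, (π b)⁻¹ * π u * (π b)⁻¹⁻¹ = π u ∨
      (π b)⁻¹ * π u * (π b)⁻¹⁻¹ = (π u)⁻¹ := by
    intro b hb
    have := hJu b⁻¹ (J.inv_mem hb)
    rwa [map_inv] at this
  have hQU : Q ≤ (Subgroup.zpowers (π u)).comap π := by
    intro q hq
    rw [Subgroup.mem_comap, (hπ1 q).2 hq]
    exact Subgroup.one_mem _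
  have huU : u ∈ (Subgroup.zpowers (π u)).comap π := Subgroup.mem_zpowers (π u)
  refine ⟨(Subgroup.zpowers (π u)).comap π, hQU, ?_, ?_, ?_, ?_⟩
  · rw [hrelQ, Subgroup.map_comap_eq_self_of_surjective hπsurj, Nat.card_zpowers, hoū]
  · intro b hb
    rw [Subgroup.mem_normalizer_iff]
    intro x
    simp only [Subgroup.mem_comap, map_mul, map_inv]
    constructor
    · intro hx
      exact hconjZ (π b) (hJu b hb) _ hx
    · intro hx
      have := hconjZ (π b)⁻¹ (hJinv b hb) _ hx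
      have e : (π b)⁻¹ * (π b * π x * (π b)⁻¹) * (π b)⁻¹⁻¹ = π x := by group
      rwa [e] at this
  · apply le_antisymm
    · apply sup_le _ hQU
      rw [Subgroup.commutator_le]
      intro x hx b hb
      have e : ⁅x, b⁆ = x * (b * x⁻¹ * b⁻¹) := by rw [commutatorElement_def]; group
      rw [e]
      refine Subgroup.mul_mem _ hx ?_
      rw [Subgroup.mem_comap] at hx ⊢
      simp only [map_mul, map_inv]
      exact hconjZ (π b) (hJu b hb) _ (Subgroup.inv_mem _ hx)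
    · intro x hx
      rw [Subgroup.mem_comap] at hx
      obtain ⟨k, hk⟩ := Subgroup.mem_zpowers_iff.1 hx
      have hc : ⁅u, a⁆ ∈ ⁅(Subgroup.zpowers (π u)).comap π, J⁆ :=
        Subgroup.commutator_mem_commutator huU ha
      have hπc : π ⁅u, a⁆ = (π u) ^ 2 := by
        have e : ⁅u, a⁆ = u * (a * u * a⁻¹)⁻¹ := by rw [commutatorElement_def]; group
        rw [e, map_mul, map_inv, hau, inv_inv, pow_two]
      have hū4 : ((π u) ^ 2) ^ 2 = π u := by
        rw [← pow_mul]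
        calc (π u) ^ (2 * 2) = (π u) ^ 3 * π u := pow_succ (π u) 3
          _ = π u := by rw [hū3, one_mul]
      have hq : ((⁅u, a⁆ ^ 2) ^ k)⁻¹ * x ∈ Q := by
        rw [← hπ1, map_mul, map_inv, map_zpow, map_pow, hπc, hū4, hk, inv_mul_cancel]
      have : x = (⁅u, a⁆ ^ 2) ^ k * (((⁅u, a⁆ ^ 2) ^ k)⁻¹ * x) := by group
      rw [this]
      exact Subgroup.mul_mem _
        (Subgroup.mem_sup_left (Subgroup.zpow_mem _ (Subgroup.pow_mem _ hc 2) k))
        (Subgroup.mem_sup_right hq)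
  · intro hUC
    exact huC (hUC huU)

example : StK1B.{u} := k1b

end Cfsg.Agent.H95.Ts

#print axioms Cfsg.Agent.H95.Ts.k1b
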