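import Mathlib
import Cfsg.Agent.H67.UmDefs
import Cfsg.Agent.H95.UmAr2b

/-!
# UM-AR2C (piece for helper67's S2263 project): two parts, largest multiplicity three
-/

set_option autoImplicit false

namespace Cfsg.Agent.H95.Um

open Cfsg.Agent.H67.Um

theorem ar2c : StAr2c := by
  intro p f d a k b m hp hf hd hne ha hk hb hm hsum hmax
  have hp2 : 2 ≤ p := hp.two_le
  obtain ⟨q, hq⟩ : ∃ q, q = p ^ f := ⟨_, rfl⟩
  have hpq : p ≤ q := by rw [hq]; exact Nat.le_self_pow (by omega) p
  have hq2 : 2 ≤ q := le_trans hp2 hpq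
  have hq1 : 1 ≤ q := by omega
  have hk3 : k ≤ 3 := by have := le_max_left k m; omega
  have hm3 : m ≤ 3 := by have := le_max_right k m; omega
  have hkm : k = 3 ∨ m = 3 := by
    rcases max_choice k m with h | h <;> omega
  have hdvda : q + 1 ∣ Qn q a := Qn_dvd q a
  have hdvdb : q + 1 ∣ Qn q b := Qn_dvd q b
  have hposa : 0 < Qn q a := Qn_pos q a hq2 ha
  have hposb : 0 < Qn q b := Qn_pos q b hq2 hb
  have hd4 : 4 ≤ d := by
    rcases hkm with rfl | rfl
    · have : 1 ≤ b * m := Nat.mul_pos hb hm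
      omega
    · have : 1 ≤ a * k := Nat.mul_pos ha hk
      omega
  obtain ⟨n, rfl⟩ : ∃ n, d = n + 4 := ⟨d - 4, by omega⟩
  -- bounds for L
  have hL1 : Qn q a * Qn q b / (q + 1) ≤ q ^ (a + b - 1) + 1 :=
    Nat.div_le_of_le_mul (Qn_mul_le q a b hq1 ha hb)
  have hL2b : Even b → Qn q a * Qn q b / (q + 1) ≤ q ^ (a + b - 1) - 1 := fun hev =>
    Nat.div_le_of_le_mul (Qn_mul_le_even q a b hq1 ha hev)
  have hL2a : Even a → Qn q a * Qn q b / (q + 1) ≤ q ^ (a + b - 1) - 1 := fun hev => by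
    have := Nat.div_le_of_le_mul (Qn_mul_le_even q b a hq1 hb hev)
    rwa [mul_comm (Qn q b), add_comm b a] at this
  have hmono : ∀ {x y : ℕ}, x ≤ y → q ^ x ≤ q ^ y := fun h => Nat.pow_le_pow_right hq1 h
  have hqn : q ^ n + 1 ≤ q ^ (n + 1) := by
    have h1 : 1 ≤ q ^ n := Nat.one_le_pow n q hq1
    have h2 : 2 * q ^ n ≤ q ^ (n + 1) := by
      rw [pow_succ, mul_comm]; exact Nat.mul_le_mul_left _ hq2
    omega
  -- the multiplicities, as numerals
  have hcases : (k = 3 ∧ m = 1) ∨ (k = 3 ∧ m = 2) ∨ (k = 3 ∧ m = 3) ∨ (k = 1 ∧ m = 3) ∨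
      (k = 2 ∧ m = 3) := by omega
  -- generic bound
  have hgen : Qn q a * Qn q b / (q + 1) ≤ q ^ (n + 1) + 1 := by
    have hE : a + b - 1 ≤ n + 1 := by
      rcases hcases with ⟨rfl, rfl⟩ | ⟨rfl, rfl⟩ | ⟨rfl, rfl⟩ | ⟨rfl, rfl⟩ | ⟨rfl, rfl⟩ <;> omega
    have := hmono hE
    omega
  -- bound for odd d
  have hoddb : Odd (n + 4) → Qn q a * Qn q b / (q + 1) ≤ q ^ (n + 1) := by
    intro hod
    obtain ⟨r, hr⟩ := hod
    have hsmall : a + b - 1 ≤ n → Qn q a * Qn q b / (q + 1) ≤ q ^ (n + 1) := by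
      intro hE
      have h2 := hmono hE
      omega
    rcases hcases with ⟨rfl, rfl⟩ | ⟨rfl, rfl⟩ | ⟨rfl, rfl⟩ | ⟨rfl, rfl⟩ | ⟨rfl, rfl⟩
    · by_cases ha1 : a = 1
      · subst ha1
        have hbev : Even b := ⟨r - 1, by omega⟩
        have hE : 1 + b - 1 ≤ n + 1 := by omega
        have h1 := hL2b hbev
        have h2 := hmono hE
        omega
      · exact hsmall (by omega)
    · exact hsmall (by omega)
    · exact hsmall (by omega)
    · by_cases hb1 : b = 1
      · subst hb1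
        have haev : Even a := ⟨r - 1, by omega⟩
        have hE : a + 1 - 1 ≤ n + 1 := by omega
        have h1 := hL2a haev
        have h2 := hmono hE
        omega
      · exact hsmall (by omega)
    · exact hsmall (by omega)
  -- the generic large case
  have hbig : ∀ c : ℕ, c ≤ q → 3 ≤ q →
      Qn q a * Qn q b / (q + 1) * c + 1 ≤ q * (q * q ^ (n + 1)) := by
    intro c hc h3
    have hY1 : 1 ≤ q ^ (n + 1) := Nat.one_le_pow _ q hq1
    have e1 := Nat.mul_le_mul hgen hc
    have e2 := Nat.mul_le_mul_right (q * q ^ (n + 1)) h3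
    have e3 := Nat.mul_le_mul_left q hY1
    nlinarith
  have hLpos : 1 ≤ Qn q a * Qn q b / (q + 1) := by
    rw [Nat.one_le_div_iff (by omega)]
    calc q + 1 ≤ Qn q a := Nat.le_of_dvd hposa hdvda
      _ ≤ Qn q a * Qn q b := Nat.le_mul_of_pos_right _ hposb
  have hLa : Qn q a ∣ Qn q a * Qn q b / (q + 1) := by
    rw [Nat.mul_div_assoc _ hdvdb]; exact dvd_mul_right _ _
  have hLb : Qn q b ∣ Qn q a * Qn q b / (q + 1) := by
    rw [mul_comm, Nat.mul_div_assoc _ hdvda]; exact dvd_mul_right _ _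
  have e1 : n + 4 - 1 = n + 3 := by omega
  have e2 : n + 4 - 2 = n + 2 := by omega
  have e3 : n + 4 - 3 = n + 1 := by omega
  have hq3' : q ^ (n + 3) = q * (q * q ^ (n + 1)) := by
    rw [pow_succ, pow_succ, mul_comm, mul_comm (q ^ (n + 1))]
  have hq2' : q ^ (n + 2) = q * q ^ (n + 1) := by rw [pow_succ, mul_comm]
  unfold Ar2C
  rw [← hq]
  by_cases hp3 : 3 ≤ p
  · refine ⟨Qn q a * Qn q b / (q + 1), 1, hLpos, hLa, hLb, ?_, ?_, ?_⟩
    · rw [pow_one]; omega
    · rw [pow_one]; omega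
    · rw [pow_one]
      unfold tgt
      rw [← hq, e1, e2, e3]
      have hq3 : 3 ≤ q := le_trans hp3 hpq
      split_ifs with h1 h2 h3
      · have := hbig p hpq hq3
        rw [hq3']; omega
      · have hf1 : f = 1 := by omega
        have hqp : q = p := by rw [hq, hf1, pow_one]
        rw [hqp] at hgen ⊢
        have h5 : p ^ (n + 1) ≤ p ^ (n + 2) := Nat.pow_le_pow_right (by omega) (by omega)
        exact Nat.mul_le_mul_right p (by omega)
      · have := hbig p hpq hq3
        rw [hq3']; omega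
      · omega
  · have hp2e : p = 2 := by omega
    refine ⟨Qn q a * Qn q b / (q + 1), 2, hLpos, hLa, hLb, ?_, ?_, ?_⟩
    · rw [hp2e]; norm_num; omega
    · rw [hp2e]; norm_num; omega
    · have e4 : p ^ 2 = 4 := by rw [hp2e]; norm_num
      rw [e4]
      unfold tgt
      rw [← hq, e1, e2, e3]
      have hq4 : 2 ≤ f → 4 ≤ q := by
        intro hf2
        have : p ^ 2 ≤ p ^ f := Nat.pow_le_pow_right (by omega) hf2
        rw [← hq, e4] at this
        exact this
      split_ifs with h1 h2 h3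
      · have h4 := hq4 h2
        have := hbig 4 h4 (by omega)
        rw [hq3']; omega
      · have hf1 : f = 1 := by omega
        have hqp : q = 2 := by rw [hq, hf1, pow_one, hp2e]
        have h5 := hoddb h1
        rw [hqp] at h5 ⊢
        rw [hp2e]
        have h6 : 2 ^ (n + 2) = 2 * 2 ^ (n + 1) := by rw [pow_succ, mul_comm]
        omega
      · have hf2 : 2 ≤ f := by
          by_contra hcon
          have hf1 : f = 1 := by omega
          rw [hq, hf1, pow_one, hp2e] at h3
          omega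
        have h4 := hq4 hf2
        have := hbig 4 h4 (by omega)
        rw [hq3']; omega
      · have hqp : q = 2 := by omega
        rw [hqp] at hgen ⊢
        omega

example : StAr2c := ar2c

end Cfsg.Agent.H95.Um

#print axioms Cfsg.Agent.H95.Um.ar2c
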