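import Mathlib
import Cfsg.Agent.H58.UqDefs
import Cfsg.Agent.H14.Thompson

/-!
# UQ-ORB (piece for helper58's S2950 project)

The orbit of `K` under `⟨N_L(J), N_{L'}(J)⟩` stays in `𝒦₀(T)` and inside `L ∩ L'`.
-/

set_option autoImplicit false
open Cfsg

namespace Cfsg.Agent.H95.Uq

open Cfsg.Agent.H58.Uq

universe u

/-- Conjugation by an element of the normalizer fixes the subgroup. -/
theorem map_conj_of_mem_normalizer {G : Type u} [Group G] (J : Subgroup G) (x : G)
    (hx : x ∈ Subgroup.normalizer (J : Set G)) :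
    J.map (MulAut.conj x).toMonoidHom = J := by
  ext y
  simp only [Subgroup.mem_map, MulEquiv.coe_toMonoidHom, MulAut.conj_apply]
  constructor
  · rintro ⟨h, hh, rfl⟩
    exact ((Subgroup.mem_normalizer_iff).1 hx h).1 hh
  · intro hy
    refine ⟨x⁻¹ * y * x, ?_, by group⟩
    have e : x * (x⁻¹ * y * x) * x⁻¹ = y := by group
    exact ((Subgroup.mem_normalizer_iff).1 hx (x⁻¹ * y * x)).2 (by rw [e]; exact hy)

/-- Conjugating a subgroup of `L` by an element of `L`. -/
theorem map_conj_le_of_mem {G : Type u} [Group G] (K L : Subgroup G) (x : G) (hK : K ≤ L)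
    (hx : x ∈ L) : K.map (MulAut.conj x).toMonoidHom ≤ L := by
  rintro _ ⟨k, hk, rfl⟩
  simp only [MulEquiv.coe_toMonoidHom, MulAut.conj_apply]
  exact L.mul_mem (L.mul_mem hx (hK hk)) (L.inv_mem hx)

theorem orb (hKey : StKey.{u}) (hK : StK0Conj.{u}) : StOrb.{u} := by
  intro G _ _ hZN T hT2 hTne L L' T₁ T₂ hLmax hL'max hL1 hL2 hJ1 hJ2 K hK0 hKL hKL' ρ hρ
  -- conjugation by an element of `N(J)` preserves `𝒦₀(T)`
  have hstep0 : ∀ x ∈ Subgroup.normalizer (thompsonSubgroupOf 2 T : Set G),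
      ∀ K : Subgroup G, K ∈ jComponentsZero T →
        K.map (MulAut.conj x).toMonoidHom ∈ jComponentsZero T := by
    intro x hx K hK0
    have h1 := hK T K x hK0
    have h2 : thompsonSubgroupOf 2 (T.map (MulAut.conj x).toMonoidHom) =
        thompsonSubgroupOf 2 T := by
      rw [← Cfsg.Agent.H14.thompsonSubgroupOf_conj 2 x T]
      exact map_conj_of_mem_normalizer _ x hx
    rw [(k0_congr T (T.map (MulAut.conj x).toMonoidHom) h2).1] at h1
    exact h1
  have hA : ∀ x ∈ L ⊓ Subgroup.normalizer (thompsonSubgroupOf 2 T : Set G),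
      ∀ K : Subgroup G, K ∈ jComponentsZero T → K ≤ L → K ≤ L' →
        K.map (MulAut.conj x).toMonoidHom ∈ jComponentsZero T ∧
          K.map (MulAut.conj x).toMonoidHom ≤ L ∧ K.map (MulAut.conj x).toMonoidHom ≤ L' := by
    intro x hx K hK0 hKL hKL'
    refine ⟨hstep0 x hx.2 K hK0, map_conj_le_of_mem K L x hKL hx.1, ?_⟩
    exact hKey hZN T hT2 hTne L' L T₂ T₁ hL'max hL2 hL1 hJ2 hJ1 K hK0 hKL' hKL x hx.1
  have hB : ∀ x ∈ L' ⊓ Subgroup.normalizer (thompsonSubgroupOf 2 T : Set G),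
      ∀ K : Subgroup G, K ∈ jComponentsZero T → K ≤ L → K ≤ L' →
        K.map (MulAut.conj x).toMonoidHom ∈ jComponentsZero T ∧
          K.map (MulAut.conj x).toMonoidHom ≤ L ∧ K.map (MulAut.conj x).toMonoidHom ≤ L' := by
    intro x hx K hK0 hKL hKL'
    refine ⟨hstep0 x hx.2 K hK0, ?_, map_conj_le_of_mem K L' x hKL' hx.1⟩
    exact hKey hZN T hT2 hTne L L' T₁ T₂ hLmax hL1 hL2 hJ1 hJ2 K hK0 hKL hKL' x hx.1
  have hsup : (L ⊓ Subgroup.normalizer (thompsonSubgroupOf 2 T : Set G)) ⊔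
      (L' ⊓ Subgroup.normalizer (thompsonSubgroupOf 2 T : Set G)) =
      Subgroup.closure (((L ⊓ Subgroup.normalizer (thompsonSubgroupOf 2 T : Set G) :
        Subgroup G) : Set G) ∪
        ((L' ⊓ Subgroup.normalizer (thompsonSubgroupOf 2 T : Set G) : Subgroup G) : Set G)) := by
    rw [Subgroup.closure_union, Subgroup.closure_eq, Subgroup.closure_eq]
  rw [hsup] at hρ
  revert K
  induction hρ using Subgroup.closure_induction'' with
  | mem x hx =>
    intro K hK0 hKL hKL'
    rcases hx with hx | hx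
    · exact hA x hx K hK0 hKL hKL'
    · exact hB x hx K hK0 hKL hKL'
  | inv_mem x hx =>
    intro K hK0 hKL hKL'
    rcases hx with hx | hx
    · exact hA x⁻¹ (Subgroup.inv_mem _ hx) K hK0 hKL hKL'
    · exact hB x⁻¹ (Subgroup.inv_mem _ hx) K hK0 hKL hKL'
  | one =>
    intro K hK0 hKL hKL'
    have e : K.map (MulAut.conj (1 : G)).toMonoidHom = K := by
      have : (MulAut.conj (1 : G)).toMonoidHom = MonoidHom.id G := by
        ext y; simp
      rw [this, Subgroup.map_id]
    rw [e]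
    exact ⟨hK0, hKL, hKL'⟩
  | mul x y hx hy ihx ihy =>
    intro K hK0 hKL hKL'
    have e : K.map (MulAut.conj (x * y)).toMonoidHom =
        (K.map (MulAut.conj y).toMonoidHom).map (MulAut.conj x).toMonoidHom := by
      rw [Subgroup.map_map]
      congr 1
      ext z
      simp [mul_assoc]
    rw [e]
    obtain ⟨h1, h2, h3⟩ := ihy K hK0 hKL hKL'
    exact ihx _ h1 h2 h3

example (hKey : StKey.{u}) (hK : StK0Conj.{u}) : StOrb.{u} := orb hKey hK

end Cfsg.Agent.H95.Uq

#print axioms Cfsg.Agent.H95.Uq.orb
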